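import Mathlib
import Groth.Prelude.Def_StGerb
import Groth.Agent.Lib.Helper2.FibGrpd
import Groth.Agent.Lib.Helper2.FibCat.EquivCrit
import Groth.Agent.Lib.Helper2.Stk.LocAut

/-!
# Gerbes over a site: flexible forms of the two conditions, composition (helper6)
-/

set_option linter.unusedSectionVars false
set_option linter.unusedVariables false
set_option linter.unusedSimpArgs false
set_option autoImplicit false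
set_option linter.style.haveILetI false
set_option maxHeartbeats 400000

noncomputable section

namespace Groth.Agent.Helper6.GerbL

open CategoryTheory Functor Groth.Agent.Helper2 Groth.Agent.Helper2.FibCatLib
  Groth.Agent.Helper2.StkLib

universe v₄ u₄ v₃ u₃ v₂ u₂ v u

variable {C : Type u} [Category.{v} C] (J : GrothendieckTopology C)
  {𝒳 : BasedCategory.{v₂, u₂} C} {𝒴 : BasedCategory.{v₃, u₃} C} {𝒵 : BasedCategory.{v₄, u₄} C}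

theorem locSurjObj_apply {F : 𝒳 ⥤ᵇ 𝒴} (hF : Gerb.LocSurjObj J F) (y : 𝒴.obj) {U : C}
    (hy : 𝒴.p.obj y = U) :
    ∃ R ∈ J U, ∀ ⦃V : C⦄ (f : V ⟶ U), R f →
      ∃ (x : 𝒳.obj) (g : F.obj x ⟶ y), 𝒴.p.IsHomLift f g := by
  subst hy
  exact hF y

theorem locSurjHom_apply {F : 𝒳 ⥤ᵇ 𝒴} (hF : Gerb.LocSurjHom J F) (x x' : 𝒳.obj) {U : C}
    (hx : 𝒳.p.obj x = U) (b : F.obj x ⟶ F.obj x') (hb : 𝒴.p.IsHomLift (𝟙 U) b) :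
    ∃ R ∈ J U, ∀ ⦃V : C⦄ (f : V ⟶ U), R f →
      ∃ (x₀ : 𝒳.obj) (φ : x₀ ⟶ x) (ψ : x₀ ⟶ x'),
        𝒳.p.IsHomLift f φ ∧ 𝒳.p.IsHomLift f ψ ∧ F.map φ ≫ b = F.map ψ := by
  subst hx
  exact hF x x' b hb

theorem isHomLift_comp' {𝒲 : Type u₂} [Category.{v₂} 𝒲] (p : 𝒲 ⥤ C) {R S T : C} {a b c : 𝒲}
    (f : R ⟶ S) (g : S ⟶ T) (φ : a ⟶ b) (ψ : b ⟶ c) (hφ : p.IsHomLift f φ)
    (hψ : p.IsHomLift g ψ) : p.IsHomLift (f ≫ g) (φ ≫ ψ) :=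
  IsHomLift.comp p f g φ ψ

theorem codomain_eq' {𝒲 : Type u₂} [Category.{v₂} 𝒲] (p : 𝒲 ⥤ C) {R S : C} {a b : 𝒲}
    (f : R ⟶ S) (φ : a ⟶ b) (hφ : p.IsHomLift f φ) : p.obj b = S :=
  IsHomLift.codomain_eq p f φ

theorem domain_eq' {𝒲 : Type u₂} [Category.{v₂} 𝒲] (p : 𝒲 ⥤ C) {R S : C} {a b : 𝒲}
    (f : R ⟶ S) (φ : a ⟶ b) (hφ : p.IsHomLift f φ) : p.obj a = R :=
  IsHomLift.domain_eq p f φ

/-- The object under `F x` is the object under `x`. -/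
theorem p_obj_of_isHomLift_dom (F : 𝒳 ⥤ᵇ 𝒴) {V U : C} (f : V ⟶ U) {x : 𝒳.obj} {y : 𝒴.obj}
    (g : F.obj x ⟶ y) (hg : 𝒴.p.IsHomLift f g) : 𝒳.p.obj x = V := by
  have h1 := IsHomLift.domain_eq 𝒴.p f g
  rw [← h1]
  exact (F.w_obj x).symm

theorem p_obj_of_isHomLift_cod (F : 𝒳 ⥤ᵇ 𝒴) {V U : C} (f : V ⟶ U) {x : 𝒳.obj} {y : 𝒴.obj}
    (g : y ⟶ F.obj x) (hg : 𝒴.p.IsHomLift f g) : 𝒳.p.obj x = U := by
  have h1 := IsHomLift.codomain_eq 𝒴.p f g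
  rw [← h1]
  exact (F.w_obj x).symm

/-- In a category fibred in groupoids: a morphism over `f` factors through any other morphism
over `f` with the same target by a unique morphism over the identity. -/
theorem exists_factor (h : FibCat.IsFibGrpd 𝒳.p) {V U : C} (f : V ⟶ U) {a a' b : 𝒳.obj}
    (φ : a ⟶ b) (hφ : 𝒳.p.IsHomLift f φ) (φ' : a' ⟶ b) (hφ' : 𝒳.p.IsHomLift f φ') :
    ∃ θ : a' ⟶ a, 𝒳.p.IsHomLift (𝟙 V) θ ∧ θ ≫ φ = φ' := by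
  obtain ⟨θ, ⟨h1, h2⟩, -⟩ := IsFibGrpd.existsUnique 𝒳.p h (𝟙 V) f f (Category.id_comp _).symm φ φ'
  exact ⟨θ, h1, h2⟩

theorem locSurjObj_comp (F : 𝒳 ⥤ᵇ 𝒴) (G : 𝒴 ⥤ᵇ 𝒵) (hF : Gerb.LocSurjObj J F)
    (hG : Gerb.LocSurjObj J G) : Gerb.LocSurjObj J (BasedFunctor.comp F G) := by
  intro z
  obtain ⟨R, hR, H⟩ := hG z
  have key : ∀ ⦃V : C⦄ ⦃f : V ⟶ 𝒵.p.obj z⦄ (hf : R f), ∃ R' ∈ J V, ∀ ⦃W : C⦄ (h : W ⟶ V), R' h →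
      ∃ (x : 𝒳.obj) (k : (BasedFunctor.comp F G).obj x ⟶ z), 𝒵.p.IsHomLift (h ≫ f) k := by
    intro V f hf
    obtain ⟨y, g, hg⟩ := H f hf
    have hy : 𝒴.p.obj y = V := p_obj_of_isHomLift_dom G f g hg
    obtain ⟨R', hR', H'⟩ := locSurjObj_apply J hF y hy
    refine ⟨R', hR', fun W h hh => ?_⟩
    obtain ⟨x, k, hk⟩ := H' h hh
    have hGk : 𝒵.p.IsHomLift h (G.map k) := BasedFunctor.preserves_isHomLift G _ _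
    exact ⟨x, G.map k ≫ g, isHomLift_comp' 𝒵.p h f (G.map k) g hGk hg⟩
  choose R' hR' H' using key
  refine ⟨Sieve.bind R R', J.bind_covering hR (fun V f hf => hR' hf), ?_⟩
  rintro W _ ⟨V, h, f, hf, hh, rfl⟩
  exact H' hf h hh

theorem locSurjHom_comp (h𝒳 : FibCat.IsFibGrpd 𝒳.p) (h𝒴 : FibCat.IsFibGrpd 𝒴.p)
    (F : 𝒳 ⥤ᵇ 𝒴) (G : 𝒴 ⥤ᵇ 𝒵) (hF : Gerb.LocSurjHom J F)
    (hG : Gerb.LocSurjHom J G) : Gerb.LocSurjHom J (BasedFunctor.comp F G) := by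
  intro x x' b
  change G.obj (F.obj x) ⟶ G.obj (F.obj x') at b
  intro hb
  have hFx : 𝒴.p.obj (F.obj x) = 𝒳.p.obj x := F.w_obj x
  have hx' : 𝒳.p.obj x' = 𝒳.p.obj x := by
    have h1 := codomain_eq' 𝒵.p (𝟙 (𝒳.p.obj x)) b hb
    rw [← h1]
    exact ((BasedFunctor.comp F G).w_obj x').symm
  obtain ⟨R, hR, H⟩ := locSurjHom_apply J hG (F.obj x) (F.obj x') hFx b hb
  have key : ∀ ⦃V : C⦄ ⦃f : V ⟶ 𝒳.p.obj x⦄ (hf : R f), ∃ R' ∈ J V, ∀ ⦃W : C⦄ (h : W ⟶ V), R' h →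
      ∃ (x₀ : 𝒳.obj) (φ : x₀ ⟶ x) (ψ : x₀ ⟶ x'),
        𝒳.p.IsHomLift (h ≫ f) φ ∧ 𝒳.p.IsHomLift (h ≫ f) ψ ∧
          (BasedFunctor.comp F G).map φ ≫ b = (BasedFunctor.comp F G).map ψ := by
    intro V f hf
    obtain ⟨y₀, φ, ψ, hφ, hψ, hc⟩ := H f hf
    obtain ⟨xV, c, hcl⟩ := IsFibGrpd.exists_lift_of_eq 𝒳.p h𝒳 (rfl : 𝒳.p.obj x = _) f
    obtain ⟨xV', c', hcl'⟩ := IsFibGrpd.exists_lift_of_eq 𝒳.p h𝒳 hx' f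
    have hFc : 𝒴.p.IsHomLift f (F.map c) := BasedFunctor.preserves_isHomLift F _ _
    have hFc' : 𝒴.p.IsHomLift f (F.map c') := BasedFunctor.preserves_isHomLift F _ _
    obtain ⟨θ, hθ, hθc⟩ := exists_factor h𝒴 f φ hφ (F.map c) hFc
    obtain ⟨θ', hθ', hθc'⟩ := exists_factor h𝒴 f (F.map c') hFc' ψ hψ
    have hxV : 𝒳.p.obj xV = V := IsHomLift.domain_eq 𝒳.p f c
    have hb₁ : 𝒴.p.IsHomLift (𝟙 V) (θ ≫ θ') := isHomLift_comp_id_left 𝒴.p (𝟙 V) θ θ' hθ hθ'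
    obtain ⟨R', hR', H'⟩ := locSurjHom_apply J hF xV xV' hxV (θ ≫ θ') hb₁
    refine ⟨R', hR', fun W h hh => ?_⟩
    obtain ⟨x₀, φ₀, ψ₀, hφ₀, hψ₀, hc₀⟩ := H' h hh
    refine ⟨x₀, φ₀ ≫ c, ψ₀ ≫ c', isHomLift_comp' 𝒳.p h f φ₀ c hφ₀ hcl,
      isHomLift_comp' 𝒳.p h f ψ₀ c' hψ₀ hcl', ?_⟩
    change G.map (F.map (φ₀ ≫ c)) ≫ b = G.map (F.map (ψ₀ ≫ c'))
    rw [F.map_comp, F.map_comp, ← hθc, ← hc₀]
    simp only [Functor.map_comp, Category.assoc]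
    rw [hc, ← hθc']
    simp only [Functor.map_comp, Category.assoc]
  choose R' hR' H' using key
  refine ⟨Sieve.bind R R', J.bind_covering hR (fun V f hf => hR' hf), ?_⟩
  rintro W _ ⟨V, h, f, hf, hh, rfl⟩
  exact H' hf h hh

theorem isGerbeOver_comp (h𝒳 : FibCat.IsFibGrpd 𝒳.p) (h𝒴 : FibCat.IsFibGrpd 𝒴.p)
    (F : 𝒳 ⥤ᵇ 𝒴) (G : 𝒴 ⥤ᵇ 𝒵) (hF : Gerb.IsGerbeOver J F)
    (hG : Gerb.IsGerbeOver J G) : Gerb.IsGerbeOver J (BasedFunctor.comp F G) :=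
  ⟨locSurjObj_comp J F G hF.1 hG.1, locSurjHom_comp J h𝒳 h𝒴 F G hF.2 hG.2⟩

end Groth.Agent.Helper6.GerbL
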