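import Mathlib
import Groth.Prelude.Def_StGerb
import Groth.Agent.Lib.Helper6.GerbL.Basic

/-!
# Gerbes over a site: invariance under isomorphism of functors and under precomposition with an
equivalence over the base (helper6)
-/

set_option linter.unusedSectionVars false
set_option linter.unusedVariables false
set_option linter.unusedSimpArgs false
set_option autoImplicit false
set_option linter.style.haveILetI false
set_option maxHeartbeats 400000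

noncomputable section

namespace Groth.Agent.Helper6.GerbL

open CategoryTheory Functor Groth.Agent.Helper2 Groth.Agent.Helper2.FibCatLib
  Groth.Agent.Helper2.StkLib

universe v₅ u₅ v₄ u₄ v₃ u₃ v₂ u₂ v u

variable {C : Type u} [Category.{v} C] (J : GrothendieckTopology C)
  {𝒳 : BasedCategory.{v₂, u₂} C} {𝒴 : BasedCategory.{v₃, u₃} C} {𝒵 : BasedCategory.{v₄, u₄} C}
  {𝒲 : BasedCategory.{v₅, u₅} C}

/-- Invariance of the gerbe conditions under a natural isomorphism over the base, given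
componentwise. -/
theorem isGerbeOver_of_iso (F F' : 𝒳 ⥤ᵇ 𝒴) (α : ∀ x : 𝒳.obj, F.obj x ≅ F'.obj x)
    (hα : ∀ x : 𝒳.obj, 𝒴.p.IsHomLift (𝟙 (𝒳.p.obj x)) (α x).hom)
    (nat : ∀ {x x' : 𝒳.obj} (φ : x ⟶ x'), F.map φ ≫ (α x').hom = (α x).hom ≫ F'.map φ)
    (hF : Gerb.IsGerbeOver J F) : Gerb.IsGerbeOver J F' := by
  have hαi : ∀ x : 𝒳.obj, 𝒴.p.IsHomLift (𝟙 (𝒳.p.obj x)) (α x).inv := by
    intro x
    have := hα x
    exact IsHomLift.lift_id_inv 𝒴.p (𝒳.p.obj x) (α x)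
  refine ⟨?_, ?_⟩
  · intro y
    obtain ⟨R, hR, H⟩ := hF.1 y
    refine ⟨R, hR, fun V f hf => ?_⟩
    obtain ⟨x, g, hg⟩ := H f hf
    have hx : 𝒳.p.obj x = V := p_obj_of_isHomLift_dom F f g hg
    have h1 : 𝒴.p.IsHomLift (𝟙 V) (α x).inv := hx ▸ hαi x
    exact ⟨x, (α x).inv ≫ g, isHomLift_comp_id_left 𝒴.p f _ g h1 hg⟩
  · intro x x' b hb
    have hx' : 𝒳.p.obj x' = 𝒳.p.obj x := p_obj_of_isHomLift_cod F' (𝟙 (𝒳.p.obj x)) b hb
    have h1 : 𝒴.p.IsHomLift (𝟙 (𝒳.p.obj x)) (b ≫ (α x').inv) :=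
      isHomLift_comp_id_right 𝒴.p (𝟙 _) b _ hb (hx' ▸ hαi x')
    have h2 : 𝒴.p.IsHomLift (𝟙 (𝒳.p.obj x)) ((α x).hom ≫ b ≫ (α x').inv) :=
      isHomLift_comp_id_left 𝒴.p (𝟙 _) _ _ (hα x) h1
    obtain ⟨R, hR, H⟩ := hF.2 x x' ((α x).hom ≫ b ≫ (α x').inv) h2
    refine ⟨R, hR, fun V f hf => ?_⟩
    obtain ⟨x₀, φ, ψ, hφ, hψ, hc⟩ := H f hf
    refine ⟨x₀, φ, ψ, hφ, hψ, ?_⟩
    have e1 : F'.map φ = (α x₀).inv ≫ F.map φ ≫ (α x).hom := by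
      rw [nat φ]; simp
    have e2 : F'.map ψ = (α x₀).inv ≫ F.map ψ ≫ (α x').hom := by
      rw [nat ψ]; simp
    rw [e1, e2, ← hc]
    simp
  
/-- Precomposing with an equivalence over the base does not change the gerbe conditions. -/
theorem isGerbeOver_equiv_comp (E : 𝒲 ⥤ᵇ 𝒳) (hE : FibCat.IsEquivOver E) (H : 𝒳 ⥤ᵇ 𝒴)
    (hH : Gerb.IsGerbeOver J H) : Gerb.IsGerbeOver J (BasedFunctor.comp E H) := by
  have hEq := isEquivalence_of_isEquivOver hE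
  refine ⟨?_, ?_⟩
  · intro y
    obtain ⟨R, hR, K⟩ := hH.1 y
    refine ⟨R, hR, fun V f hf => ?_⟩
    obtain ⟨x, g, hg⟩ := K f hf
    have hx : 𝒳.p.obj x = V := p_obj_of_isHomLift_dom H f g hg
    obtain ⟨w, θ, hθ⟩ := exists_iso_over_of_isEquivOver hE x
    have hθ' : 𝒳.p.IsHomLift (𝟙 V) θ.hom := hx ▸ hθ
    have h1 : 𝒴.p.IsHomLift (𝟙 V) (H.map θ.hom) := BasedFunctor.preserves_isHomLift H _ _
    exact ⟨w, H.map θ.hom ≫ g, isHomLift_comp_id_left 𝒴.p f _ g h1 hg⟩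
  · intro w w' b
    change H.obj (E.obj w) ⟶ H.obj (E.obj w') at b
    intro hb
    have hEw : 𝒳.p.obj (E.obj w) = 𝒲.p.obj w := E.w_obj w
    obtain ⟨R, hR, K⟩ := locSurjHom_apply J hH.2 (E.obj w) (E.obj w') hEw b hb
    refine ⟨R, hR, fun V f hf => ?_⟩
    obtain ⟨x₀, φ, ψ, hφ, hψ, hc⟩ := K f hf
    have hx₀ : 𝒳.p.obj x₀ = V := domain_eq' 𝒳.p f φ hφ
    obtain ⟨w₀, θ, hθ⟩ := exists_iso_over_of_isEquivOver hE x₀
    have hθ' : 𝒳.p.IsHomLift (𝟙 V) θ.hom := hx₀ ▸ hθ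
    have h1 : 𝒳.p.IsHomLift f (θ.hom ≫ φ) := isHomLift_comp_id_left 𝒳.p f _ φ hθ' hφ
    have h2 : 𝒳.p.IsHomLift f (θ.hom ≫ ψ) := isHomLift_comp_id_left 𝒳.p f _ ψ hθ' hψ
    refine ⟨w₀, E.toFunctor.preimage (θ.hom ≫ φ), E.toFunctor.preimage (θ.hom ≫ ψ), ?_, ?_, ?_⟩
    · rw [← BasedFunctor.isHomLift_iff E]
      change 𝒳.p.IsHomLift f (E.toFunctor.map (E.toFunctor.preimage (θ.hom ≫ φ)))
      rw [Functor.map_preimage]; exact h1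
    · rw [← BasedFunctor.isHomLift_iff E]
      change 𝒳.p.IsHomLift f (E.toFunctor.map (E.toFunctor.preimage (θ.hom ≫ ψ)))
      rw [Functor.map_preimage]; exact h2
    · change H.map (E.toFunctor.map (E.toFunctor.preimage (θ.hom ≫ φ))) ≫ b =
        H.map (E.toFunctor.map (E.toFunctor.preimage (θ.hom ≫ ψ)))
      rw [Functor.map_preimage, Functor.map_preimage, Functor.map_comp, Functor.map_comp,
        Category.assoc, hc]

/-- If the composite of an equivalence over the base with `H` satisfies the gerbe conditions,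
so does `H`. -/
theorem isGerbeOver_of_equiv_comp (E : 𝒲 ⥤ᵇ 𝒳) (hE : FibCat.IsEquivOver E) (H : 𝒳 ⥤ᵇ 𝒴)
    (hH : Gerb.IsGerbeOver J (BasedFunctor.comp E H)) : Gerb.IsGerbeOver J H := by
  refine ⟨?_, ?_⟩
  · intro y
    obtain ⟨R, hR, K⟩ := hH.1 y
    refine ⟨R, hR, fun V f hf => ?_⟩
    obtain ⟨w, g, hg⟩ := K f hf
    exact ⟨E.obj w, g, hg⟩
  · intro x x' b hb
    have hx' : 𝒳.p.obj x' = 𝒳.p.obj x := p_obj_of_isHomLift_cod H (𝟙 (𝒳.p.obj x)) b hb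
    obtain ⟨w, θ, hθ⟩ := exists_iso_over_of_isEquivOver hE x
    obtain ⟨w', θ', hθ'⟩ := exists_iso_over_of_isEquivOver hE x'
    have hθi' : 𝒳.p.IsHomLift (𝟙 (𝒳.p.obj x')) θ'.inv := IsHomLift.lift_id_inv 𝒳.p _ θ'
    have hθi'' : 𝒳.p.IsHomLift (𝟙 (𝒳.p.obj x)) θ'.inv := hx' ▸ hθi'
    have hθ'' : 𝒳.p.IsHomLift (𝟙 (𝒳.p.obj x)) θ'.hom := hx' ▸ hθ'
    have hw : 𝒲.p.obj w = 𝒳.p.obj x := by
      have h1 := domain_eq' 𝒳.p _ θ.hom hθ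
      rw [← h1]; exact (E.w_obj w).symm
    have g1 : 𝒴.p.IsHomLift (𝟙 (𝒳.p.obj x)) (H.map θ.hom) :=
      BasedFunctor.preserves_isHomLift H _ _
    have g2 : 𝒴.p.IsHomLift (𝟙 (𝒳.p.obj x)) (H.map θ'.inv) :=
      BasedFunctor.preserves_isHomLift H _ _
    have h1 : 𝒴.p.IsHomLift (𝟙 (𝒳.p.obj x)) (b ≫ H.map θ'.inv) :=
      isHomLift_comp_id_right 𝒴.p (𝟙 _) b _ hb g2
    have h2 : 𝒴.p.IsHomLift (𝟙 (𝒳.p.obj x)) (H.map θ.hom ≫ b ≫ H.map θ'.inv) :=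
      isHomLift_comp_id_left 𝒴.p (𝟙 _) _ _ g1 h1
    obtain ⟨R, hR, K⟩ := locSurjHom_apply J hH.2 w w' hw (H.map θ.hom ≫ b ≫ H.map θ'.inv) h2
    refine ⟨R, hR, fun V f hf => ?_⟩
    obtain ⟨w₀, φ, ψ, hφ, hψ, hc⟩ := K f hf
    have k1 : 𝒳.p.IsHomLift f (E.map φ) := BasedFunctor.preserves_isHomLift E _ _
    have k2 : 𝒳.p.IsHomLift f (E.map ψ) := BasedFunctor.preserves_isHomLift E _ _
    refine ⟨E.obj w₀, E.map φ ≫ θ.hom, E.map ψ ≫ θ'.hom,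
      isHomLift_comp_id_right 𝒳.p f _ _ k1 hθ, isHomLift_comp_id_right 𝒳.p f _ _ k2 hθ'', ?_⟩
    change H.map (E.map φ) ≫ (H.map θ.hom ≫ b ≫ H.map θ'.inv) = H.map (E.map ψ) at hc
    have e : H.map θ'.inv ≫ H.map θ'.hom = 𝟙 _ := by
      rw [← Functor.map_comp, Iso.inv_hom_id, CategoryTheory.Functor.map_id]
    rw [Functor.map_comp, Functor.map_comp, ← hc]
    simp only [Category.assoc, e, Category.comp_id]

theorem isGerbeOver_equiv_comp_iff (E : 𝒲 ⥤ᵇ 𝒳) (hE : FibCat.IsEquivOver E) (H : 𝒳 ⥤ᵇ 𝒴) :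
    Gerb.IsGerbeOver J (BasedFunctor.comp E H) ↔ Gerb.IsGerbeOver J H :=
  ⟨isGerbeOver_of_equiv_comp J E hE H, isGerbeOver_equiv_comp J E hE H⟩

end Groth.Agent.Helper6.GerbL
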