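import Mathlib
import Groth.Prelude.Def_StGerb
import Groth.Agent.Lib.Helper6.GerbL.Equiv

/-!
# Gerbes over a site: base change to a 2-fibre product and descent (helper6)
-/

set_option linter.unusedSectionVars false
set_option linter.unusedVariables false
set_option linter.unusedSimpArgs false
set_option autoImplicit false
set_option linter.style.haveILetI false
set_option maxHeartbeats 400000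

noncomputable section

namespace Groth.Agent.Helper6.GerbL

open CategoryTheory Functor Groth.Agent.Helper2 Groth.Agent.Helper2.FibCatLib
  Groth.Agent.Helper2.StkLib

universe v₅ u₅ v₄ u₄ v₃ u₃ v₂ u₂ v u

variable {C : Type u} [Category.{v} C] (J : GrothendieckTopology C)
  {𝒳 : BasedCategory.{v₂, u₂} C} {𝒴 : BasedCategory.{v₃, u₃} C} {𝒴' : BasedCategory.{v₄, u₄} C}

theorem isHomLift_id_transport {𝒲 : Type u₂} [Category.{v₂} 𝒲] (p : 𝒲 ⥤ C) {S S' : C}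
    (e : S = S') {a b : 𝒲} (φ : a ⟶ b) (h : p.IsHomLift (𝟙 S) φ) : p.IsHomLift (𝟙 S') φ := by
  subst e; exact h

theorem map_isHomLift' {𝒜 : BasedCategory.{v₂, u₂} C} {ℬ : BasedCategory.{v₃, u₃} C}
    (F : 𝒜 ⥤ᵇ ℬ) {R S : C} (f : R ⟶ S) {a b : 𝒜.obj} (φ : a ⟶ b) (h : 𝒜.p.IsHomLift f φ) :
    ℬ.p.IsHomLift f (F.map φ) :=
  BasedFunctor.preserves_isHomLift F f φ

theorem locSurjObj_fpFst (h𝒴' : FibCat.IsFibGrpd 𝒴'.p) (h𝒴 : FibCat.IsFibGrpd 𝒴.p)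
    (F : 𝒳 ⥤ᵇ 𝒴) (G : 𝒴' ⥤ᵇ 𝒴) (hF : Gerb.LocSurjObj J F) :
    Gerb.LocSurjObj J (FibCat.fpFst G F) := by
  intro y'
  change 𝒴'.obj at y'
  have hGy : 𝒴.p.obj (G.obj y') = 𝒴'.p.obj y' := G.w_obj y'
  obtain ⟨R, hR, H⟩ := locSurjObj_apply J hF (G.obj y') hGy
  refine ⟨R, hR, fun V f hf => ?_⟩
  obtain ⟨x, g, hg⟩ := H f hf
  obtain ⟨yV, c, hc⟩ := IsFibGrpd.exists_lift_of_eq 𝒴'.p h𝒴' (rfl : 𝒴'.p.obj y' = _) f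
  have hGc : 𝒴.p.IsHomLift f (G.map c) := BasedFunctor.preserves_isHomLift G _ _
  obtain ⟨θ, hθ, hθc⟩ := exists_factor h𝒴 f g hg (G.map c) hGc
  have hiso : IsIso θ := IsFibGrpd.isIso_of_isHomLift_id 𝒴.p h𝒴 (S := V) θ
  have hyV : 𝒴'.p.obj yV = V := domain_eq' 𝒴'.p f c hc
  have hθ' : 𝒴.p.IsHomLift (𝟙 (𝒴'.p.obj yV)) θ := isHomLift_id_transport 𝒴.p hyV.symm θ hθ
  exact ⟨fpMkObj G F yV x (@asIso _ _ _ _ θ hiso) hθ', c, hc⟩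

theorem locSurjHom_fpFst (h𝒴' : FibCat.IsFibGrpd 𝒴'.p) (h𝒴 : FibCat.IsFibGrpd 𝒴.p)
    (F : 𝒳 ⥤ᵇ 𝒴) (G : 𝒴' ⥤ᵇ 𝒴) (hF : Gerb.LocSurjHom J F) :
    Gerb.LocSurjHom J (FibCat.fpFst G F) := by
  intro Z₁ Z₂ b
  change Z₁.obj.fst ⟶ Z₂.obj.fst at b
  intro hb
  change 𝒴'.p.IsHomLift (𝟙 (𝒴'.p.obj Z₁.obj.fst)) b at hb
  have hα₁ : 𝒴.p.IsHomLift (𝟙 (𝒴'.p.obj Z₁.obj.fst)) Z₁.obj.iso.hom := Z₁.property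
  have hZ₂ : 𝒴'.p.obj Z₂.obj.fst = 𝒴'.p.obj Z₁.obj.fst := codomain_eq' 𝒴'.p _ b hb
  have hα₂ : 𝒴.p.IsHomLift (𝟙 (𝒴'.p.obj Z₁.obj.fst)) Z₂.obj.iso.hom :=
    isHomLift_id_transport 𝒴.p hZ₂ _ Z₂.property
  have hα₁i : 𝒴.p.IsHomLift (𝟙 (𝒴'.p.obj Z₁.obj.fst)) Z₁.obj.iso.inv :=
    IsHomLift.lift_id_inv 𝒴.p _ Z₁.obj.iso
  have hGb : 𝒴.p.IsHomLift (𝟙 (𝒴'.p.obj Z₁.obj.fst)) (G.map b) :=
    BasedFunctor.preserves_isHomLift G _ _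
  have h1 : 𝒴.p.IsHomLift (𝟙 (𝒴'.p.obj Z₁.obj.fst)) (G.map b ≫ Z₂.obj.iso.hom) :=
    isHomLift_comp_id_left 𝒴.p (𝟙 _) _ _ hGb hα₂
  have hβ : 𝒴.p.IsHomLift (𝟙 (𝒴'.p.obj Z₁.obj.fst))
      (Z₁.obj.iso.inv ≫ G.map b ≫ Z₂.obj.iso.hom) :=
    isHomLift_comp_id_left 𝒴.p (𝟙 _) _ _ hα₁i h1
  have hx₁ : 𝒳.p.obj Z₁.obj.snd = 𝒴'.p.obj Z₁.obj.fst :=
    p_obj_of_isHomLift_cod F _ Z₁.obj.iso.hom hα₁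
  obtain ⟨R, hR, H⟩ := locSurjHom_apply J hF Z₁.obj.snd Z₂.obj.snd hx₁ _ hβ
  refine ⟨R, hR, fun V f hf => ?_⟩
  obtain ⟨x₀, φx, ψx, hφx, hψx, hcx⟩ := H f hf
  obtain ⟨y₀, c, hc⟩ := IsFibGrpd.exists_lift_of_eq 𝒴'.p h𝒴' (rfl : 𝒴'.p.obj Z₁.obj.fst = _) f
  have hFφ : 𝒴.p.IsHomLift f (F.map φx) := map_isHomLift' F f φx hφx
  have hGc : 𝒴.p.IsHomLift f (G.map c) := map_isHomLift' G f c hc
  have hGcα : 𝒴.p.IsHomLift f (G.map c ≫ Z₁.obj.iso.hom) :=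
    isHomLift_comp_id_right 𝒴.p f _ _ hGc hα₁
  obtain ⟨α₀, hα₀, hα₀c⟩ := exists_factor h𝒴 f (F.map φx) hFφ (G.map c ≫ Z₁.obj.iso.hom) hGcα
  have hiso : IsIso α₀ := IsFibGrpd.isIso_of_isHomLift_id 𝒴.p h𝒴 (S := V) α₀
  have hy₀ : 𝒴'.p.obj y₀ = V := domain_eq' 𝒴'.p f c hc
  have hα₀' : 𝒴.p.IsHomLift (𝟙 (𝒴'.p.obj y₀)) α₀ := isHomLift_id_transport 𝒴.p hy₀.symm α₀ hα₀
  let Z₀ : (FibCat.fp G F).obj := fpMkObj G F y₀ x₀ (@asIso _ _ _ _ α₀ hiso) hα₀'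
  have w₁ : G.map c ≫ Z₁.obj.iso.hom = Z₀.obj.iso.hom ≫ F.map φx := hα₀c.symm
  have w₂ : G.map (c ≫ b) ≫ Z₂.obj.iso.hom = Z₀.obj.iso.hom ≫ F.map ψx := by
    change _ = α₀ ≫ F.map ψx
    rw [← hcx, ← Category.assoc α₀, hα₀c]
    simp
  have hcb : 𝒴'.p.IsHomLift f (c ≫ b) := isHomLift_comp_id_right 𝒴'.p f c b hc hb
  refine ⟨Z₀, fpMkHom G F (Z := Z₀) (Z' := Z₁) c φx w₁, fpMkHom G F (Z := Z₀) (Z' := Z₂) (c ≫ b) ψx w₂,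
    fp_isHomLift_of_fst G F f _ hc, fp_isHomLift_of_fst G F f _ hcb, rfl⟩

theorem isGerbeOver_fpFst (h𝒴' : FibCat.IsFibGrpd 𝒴'.p) (h𝒴 : FibCat.IsFibGrpd 𝒴.p)
    (F : 𝒳 ⥤ᵇ 𝒴) (G : 𝒴' ⥤ᵇ 𝒴) (hF : Gerb.IsGerbeOver J F) :
    Gerb.IsGerbeOver J (FibCat.fpFst G F) :=
  ⟨locSurjObj_fpFst J h𝒴' h𝒴 F G hF.1, locSurjHom_fpFst J h𝒴' h𝒴 F G hF.2⟩

end Groth.Agent.Helper6.GerbL
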