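import Mathlib
import Groth.Prelude.Def_StGerb
import Groth.Agent.Lib.Helper6.GerbL.Fp

/-!
# Gerbes over a site: descent along a locally essentially surjective base change (helper6)
-/

set_option linter.unusedSectionVars false
set_option linter.unusedVariables false
set_option linter.unusedSimpArgs false
set_option autoImplicit false
set_option linter.style.haveILetI false
set_option maxHeartbeats 400000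

noncomputable section

namespace Groth.Agent.Helper6.GerbL

open CategoryTheory Functor Groth.Agent.Helper2 Groth.Agent.Helper2.FibCatLib
  Groth.Agent.Helper2.StkLib

universe v₅ u₅ v₄ u₄ v₃ u₃ v₂ u₂ v u

variable {C : Type u} [Category.{v} C] (J : GrothendieckTopology C)
  {𝒳 : BasedCategory.{v₂, u₂} C} {𝒴 : BasedCategory.{v₃, u₃} C} {𝒴' : BasedCategory.{v₄, u₄} C}

theorem locSurjObj_of_fpFst (F : 𝒳 ⥤ᵇ 𝒴) (G : 𝒴' ⥤ᵇ 𝒴) (hG : Gerb.LocSurjObj J G)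
    (hP : Gerb.LocSurjObj J (FibCat.fpFst G F)) : Gerb.LocSurjObj J F := by
  intro y
  obtain ⟨R, hR, H⟩ := hG y
  have key : ∀ ⦃V : C⦄ ⦃f : V ⟶ 𝒴.p.obj y⦄ (hf : R f), ∃ R' ∈ J V, ∀ ⦃W : C⦄ (h : W ⟶ V), R' h →
      ∃ (x : 𝒳.obj) (k : F.obj x ⟶ y), 𝒴.p.IsHomLift (h ≫ f) k := by
    intro V f hf
    obtain ⟨y', g, hg⟩ := H f hf
    have hy' : 𝒴'.p.obj y' = V := p_obj_of_isHomLift_dom G f g hg
    obtain ⟨R', hR', H'⟩ := locSurjObj_apply J hP y' hy'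
    refine ⟨R', hR', fun W h hh => ?_⟩
    obtain ⟨Z, k, hk⟩ := H' h hh
    change Z.obj.fst ⟶ y' at k
    have hk' : 𝒴'.p.IsHomLift h k := hk
    have hW : 𝒴'.p.obj Z.obj.fst = W := domain_eq' 𝒴'.p h k hk'
    have hα : 𝒴.p.IsHomLift (𝟙 (𝒴'.p.obj Z.obj.fst)) Z.obj.iso.hom := Z.property
    have hαi : 𝒴.p.IsHomLift (𝟙 (𝒴'.p.obj Z.obj.fst)) Z.obj.iso.inv :=
      IsHomLift.lift_id_inv 𝒴.p _ Z.obj.iso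
    have hαi' : 𝒴.p.IsHomLift (𝟙 W) Z.obj.iso.inv := isHomLift_id_transport 𝒴.p hW _ hαi
    have hGk : 𝒴.p.IsHomLift h (G.map k) := map_isHomLift' G h k hk'
    have h1 : 𝒴.p.IsHomLift (h ≫ f) (G.map k ≫ g) := isHomLift_comp' 𝒴.p h f _ g hGk hg
    exact ⟨Z.obj.snd, Z.obj.iso.inv ≫ G.map k ≫ g,
      isHomLift_comp_id_left 𝒴.p (h ≫ f) _ _ hαi' h1⟩
  choose R' hR' H' using key
  refine ⟨Sieve.bind R R', J.bind_covering hR (fun V f hf => hR' hf), ?_⟩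
  rintro W _ ⟨V, h, f, hf, hh, rfl⟩
  exact H' hf h hh

theorem locSurjHom_of_fpFst (h𝒳 : FibCat.IsFibGrpd 𝒳.p) (h𝒴 : FibCat.IsFibGrpd 𝒴.p)
    (F : 𝒳 ⥤ᵇ 𝒴) (G : 𝒴' ⥤ᵇ 𝒴) (hG : Gerb.LocSurjObj J G)
    (hP : Gerb.LocSurjHom J (FibCat.fpFst G F)) : Gerb.LocSurjHom J F := by
  intro x₁ x₂ b hb
  have hx₂ : 𝒳.p.obj x₂ = 𝒳.p.obj x₁ := p_obj_of_isHomLift_cod F _ b hb
  have hFx₁ : 𝒴.p.obj (F.obj x₁) = 𝒳.p.obj x₁ := F.w_obj x₁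
  obtain ⟨R, hR, H⟩ := locSurjObj_apply J hG (F.obj x₁) hFx₁
  have key : ∀ ⦃V : C⦄ ⦃f : V ⟶ 𝒳.p.obj x₁⦄ (hf : R f), ∃ R' ∈ J V,
      ∀ ⦃W : C⦄ (h : W ⟶ V), R' h →
        ∃ (x₀ : 𝒳.obj) (φ : x₀ ⟶ x₁) (ψ : x₀ ⟶ x₂),
          𝒳.p.IsHomLift (h ≫ f) φ ∧ 𝒳.p.IsHomLift (h ≫ f) ψ ∧ F.map φ ≫ b = F.map ψ := by
    intro V f hf
    obtain ⟨y', g, hg⟩ := H f hf
    have hy' : 𝒴'.p.obj y' = V := p_obj_of_isHomLift_dom G f g hg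
    obtain ⟨x₁', c₁, hc₁⟩ := IsFibGrpd.exists_lift_of_eq 𝒳.p h𝒳 (rfl : 𝒳.p.obj x₁ = _) f
    obtain ⟨x₂', c₂, hc₂⟩ := IsFibGrpd.exists_lift_of_eq 𝒳.p h𝒳 hx₂ f
    have hFc₁ : 𝒴.p.IsHomLift f (F.map c₁) := map_isHomLift' F f c₁ hc₁
    have hFc₂ : 𝒴.p.IsHomLift f (F.map c₂) := map_isHomLift' F f c₂ hc₂
    have hgb : 𝒴.p.IsHomLift f (g ≫ b) := isHomLift_comp_id_right 𝒴.p f g b hg hb
    obtain ⟨α₁, hα₁, hα₁c⟩ := exists_factor h𝒴 f (F.map c₁) hFc₁ g hg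
    obtain ⟨α₂, hα₂, hα₂c⟩ := exists_factor h𝒴 f (F.map c₂) hFc₂ (g ≫ b) hgb
    have hiso₁ : IsIso α₁ := IsFibGrpd.isIso_of_isHomLift_id 𝒴.p h𝒴 (S := V) α₁
    have hiso₂ : IsIso α₂ := IsFibGrpd.isIso_of_isHomLift_id 𝒴.p h𝒴 (S := V) α₂
    have hα₁' : 𝒴.p.IsHomLift (𝟙 (𝒴'.p.obj y')) α₁ := isHomLift_id_transport 𝒴.p hy'.symm α₁ hα₁
    have hα₂' : 𝒴.p.IsHomLift (𝟙 (𝒴'.p.obj y')) α₂ := isHomLift_id_transport 𝒴.p hy'.symm α₂ hα₂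
    let Z₁ : (FibCat.fp G F).obj := fpMkObj G F y' x₁' (@asIso _ _ _ _ α₁ hiso₁) hα₁'
    let Z₂ : (FibCat.fp G F).obj := fpMkObj G F y' x₂' (@asIso _ _ _ _ α₂ hiso₂) hα₂'
    have hZ₁ : (FibCat.fp G F).p.obj Z₁ = V := hy'
    have hid : 𝒴'.p.IsHomLift (𝟙 V) (𝟙 y') := by
      have : 𝒴'.p.IsHomLift (𝟙 (𝒴'.p.obj y')) (𝟙 y') := IsHomLift.id (p := 𝒴'.p) rfl
      exact isHomLift_id_transport 𝒴'.p hy' _ this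
    obtain ⟨R', hR', H'⟩ := locSurjHom_apply J hP Z₁ Z₂ hZ₁ (𝟙 y') hid
    refine ⟨R', hR', fun W h hh => ?_⟩
    obtain ⟨Z₀, φ, ψ, hφ, hψ, hc⟩ := H' h hh
    obtain ⟨k₁, hk₁⟩ : ∃ k : Z₀.obj.fst ⟶ y', k = φ.hom.fst := ⟨_, rfl⟩
    obtain ⟨k₂, hk₂⟩ : ∃ k : Z₀.obj.fst ⟶ y', k = ψ.hom.fst := ⟨_, rfl⟩
    obtain ⟨s₁, hs₁⟩ : ∃ s : Z₀.obj.snd ⟶ x₁', s = φ.hom.snd := ⟨_, rfl⟩
    obtain ⟨s₂, hs₂⟩ : ∃ s : Z₀.obj.snd ⟶ x₂', s = ψ.hom.snd := ⟨_, rfl⟩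
    have hφs : 𝒳.p.IsHomLift h s₁ := by
      rw [hs₁]; exact map_isHomLift' (FibCat.fpSnd G F) h φ hφ
    have hψs : 𝒳.p.IsHomLift h s₂ := by
      rw [hs₂]; exact map_isHomLift' (FibCat.fpSnd G F) h ψ hψ
    have hfst : k₁ = k₂ := by
      rw [hk₁, hk₂]; exact (Category.comp_id _).symm.trans hc
    have wφ : G.map k₁ ≫ α₁ = Z₀.obj.iso.hom ≫ F.map s₁ := by
      rw [hk₁, hs₁]; exact φ.hom.w
    have wψ : G.map k₂ ≫ α₂ = Z₀.obj.iso.hom ≫ F.map s₂ := by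
      rw [hk₂, hs₂]; exact ψ.hom.w
    refine ⟨Z₀.obj.snd, s₁ ≫ c₁, s₂ ≫ c₂,
      isHomLift_comp' 𝒳.p h f _ c₁ hφs hc₁, isHomLift_comp' 𝒳.p h f _ c₂ hψs hc₂, ?_⟩
    rw [← cancel_epi Z₀.obj.iso.hom, Functor.map_comp, Functor.map_comp]
    rw [← Category.assoc, ← Category.assoc, ← wφ, ← Category.assoc Z₀.obj.iso.hom, ← wψ]
    simp only [Category.assoc]
    rw [reassoc_of% hα₁c, hα₂c, hfst]
  choose R' hR' H' using key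
  refine ⟨Sieve.bind R R', J.bind_covering hR (fun V f hf => hR' hf), ?_⟩
  rintro W _ ⟨V, h, f, hf, hh, rfl⟩
  exact H' hf h hh

theorem isGerbeOver_of_fpFst (h𝒳 : FibCat.IsFibGrpd 𝒳.p) (h𝒴 : FibCat.IsFibGrpd 𝒴.p)
    (F : 𝒳 ⥤ᵇ 𝒴) (G : 𝒴' ⥤ᵇ 𝒴) (hG : Gerb.LocSurjObj J G)
    (hP : Gerb.IsGerbeOver J (FibCat.fpFst G F)) : Gerb.IsGerbeOver J F :=
  ⟨locSurjObj_of_fpFst J F G hG hP.1, locSurjHom_of_fpFst J h𝒳 h𝒴 F G hG hP.2⟩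

end Groth.Agent.Helper6.GerbL
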