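import Mathlib
import Groth.Prelude.Def_StGerb
import Groth.Agent.Lib.Helper6.GerbL.Fp
import Groth.Agent.Lib.Helper2.Stk.LocEss

/-!
# Extension of a natural family of morphisms from a locally exhaustive sieve-like class of objects
to all objects, with values in a stack (helper6)
-/

set_option linter.unusedSectionVars false
set_option linter.unusedVariables false
set_option linter.unusedSimpArgs false
set_option autoImplicit false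
set_option linter.style.haveILetI false
set_option maxHeartbeats 400000

noncomputable section

namespace Groth.Agent.Helper6.GerbL

open CategoryTheory Functor Groth.Agent.Helper2 Groth.Agent.Helper2.FibCatLib
  Groth.Agent.Helper2.StkLib

universe v₃ u₃ v₂ u₂ v u

variable {C : Type u} [Category.{v} C] (J : GrothendieckTopology C)
  {𝒴 : BasedCategory.{v₂, u₂} C} {𝒵 : BasedCategory.{v₃, u₃} C}

theorem ext_calc {D : Type*} [Category D] {X0 X1 X2 X3 Y0 Y1 Y2 Y3 : D} (a : X0 ⟶ X1)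
    (b : X1 ⟶ X2) (c : X2 ⟶ X3) (c' : X3 ⟶ X2) (m : X2 ⟶ Y2) (d : Y2 ⟶ Y3) (r : X1 ⟶ Y1)
    (b' : Y1 ⟶ Y2) (r0 : X0 ⟶ Y0) (a' : Y0 ⟶ Y1) (e : c ≫ c' = 𝟙 _) (n1 : b ≫ m = r ≫ b')
    (n2 : a ≫ r = r0 ≫ a') : a ≫ b ≫ c ≫ c' ≫ m ≫ d = r0 ≫ a' ≫ b' ≫ d := by
  rw [reassoc_of% e, reassoc_of% n1, reassoc_of% n2]

/-- The sieve on the object under `y` of the arrows over which `y` has a pullback in the class `Q`. -/
def qSieve (Q : 𝒴.obj → Prop) (hQ : ∀ {y' y : 𝒴.obj} (k : y' ⟶ y), Q y → Q y')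
    (h𝒴 : FibCat.IsFibGrpd 𝒴.p) (y : 𝒴.obj) : Sieve (𝒴.p.obj y) where
  arrows V f := ∃ (y' : 𝒴.obj) (k : y' ⟶ y), Q y' ∧ 𝒴.p.IsHomLift f k
  downward_closed := by
    rintro V W f ⟨y', k, hy', hk⟩ h
    have hV : 𝒴.p.obj y' = V := domain_eq' 𝒴.p f k hk
    obtain ⟨y'', c, hc⟩ := IsFibGrpd.exists_lift_of_eq 𝒴.p h𝒴 hV h
    exact ⟨y'', c ≫ k, hQ c hy', isHomLift_comp' 𝒴.p h f c k hc hk⟩

section

variable (Φ Ψ : 𝒴 ⥤ᵇ 𝒵) (Q : 𝒴.obj → Prop)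
  (hQ : ∀ {y' y : 𝒴.obj} (k : y' ⟶ y), Q y → Q y')
  (h𝒴 : FibCat.IsFibGrpd 𝒴.p) (h𝒵 : FibCat.IsFibGrpd 𝒵.p)
  (ρ : ∀ y : 𝒴.obj, Q y → (Φ.obj y ⟶ Ψ.obj y))
  (hρ : ∀ (y : 𝒴.obj) (hy : Q y), 𝒵.p.IsHomLift (𝟙 (𝒴.p.obj y)) (ρ y hy))
  (nat : ∀ {y' y : 𝒴.obj} (k : y' ⟶ y) (hy : Q y) (hy' : Q y'),
    Φ.map k ≫ ρ y hy = ρ y' hy' ≫ Ψ.map k)

include hQ h𝒴 h𝒵 hρ nat in
/-- Extension at one object. -/
theorem exists_ext_at (y : 𝒴.obj)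
    (hfull : (Stk.resSieve (qSieve Q hQ h𝒴 y) 𝒵).Full) :
    ∃ r : Φ.obj y ⟶ Ψ.obj y, 𝒵.p.IsHomLift (𝟙 (𝒴.p.obj y)) r ∧
      ∀ (y' : 𝒴.obj) (hy' : Q y') (k : y' ⟶ y), Φ.map k ≫ r = ρ y' hy' ≫ Ψ.map k := by
  set T := 𝒴.p.obj y with hT
  set R := qSieve Q hQ h𝒴 y with hRdef
  obtain ⟨Gy, ey, hey⟩ := exists_functor_of_obj h𝒴 y (rfl : 𝒴.p.obj y = T)
  have hQA : ∀ A : (Stk.sieveCat R).obj, Q (Gy.obj A.obj) := by
    intro A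
    obtain ⟨y', k, hy', hk⟩ := A.property
    have h1 : 𝒴.p.IsHomLift A.obj.hom (Gy.map (toId T A.obj) ≫ ey.hom) :=
      isHomLift_map_toId_comp Gy ey.hom hey A.obj
    obtain ⟨θ, hθ, hθk⟩ := exists_factor h𝒴 A.obj.hom k hk _ h1
    exact hQ θ hy'
  let ν : (Stk.resSieve R 𝒵).obj (BasedFunctor.comp Gy Φ) ⟶
      (Stk.resSieve R 𝒵).obj (BasedFunctor.comp Gy Ψ) :=
    { app := fun A => ρ (Gy.obj A.obj) (hQA A)
      naturality := fun A B g => nat (Gy.map g.hom) (hQA B) (hQA A)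
      isHomLift' := fun A => by
        have h1 : 𝒴.p.obj (Gy.obj A.obj) = A.obj.left := Gy.w_obj A.obj
        exact isHomLift_id_transport 𝒵.p h1 _ (hρ (Gy.obj A.obj) (hQA A)) }
  obtain ⟨μ, hμ⟩ := hfull.map_surjective ν
  have hμA : ∀ A : (Stk.sieveCat R).obj, μ.toNatTrans.app A.obj = ρ (Gy.obj A.obj) (hQA A) := by
    intro A
    have := congrArg (fun t => t.toNatTrans.app A) hμ
    exact this
  have hμ1 : 𝒵.p.IsHomLift (𝟙 T) (μ.toNatTrans.app (Over.mk (𝟙 T))) :=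
    isHomLift_app_over T μ (Over.mk (𝟙 T))
  have heyi : 𝒴.p.IsHomLift (𝟙 T) ey.inv := IsHomLift.lift_id_inv 𝒴.p T ey
  have hΦe : 𝒵.p.IsHomLift (𝟙 T) (Φ.map ey.inv) := map_isHomLift' Φ (𝟙 T) ey.inv heyi
  have hΨe : 𝒵.p.IsHomLift (𝟙 T) (Ψ.map ey.hom) := map_isHomLift' Ψ (𝟙 T) ey.hom hey
  refine ⟨Φ.map ey.inv ≫ μ.toNatTrans.app (Over.mk (𝟙 T)) ≫ Ψ.map ey.hom, ?_, ?_⟩
  · exact isHomLift_comp_id_left 𝒵.p (𝟙 T) _ _ hΦe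
      (isHomLift_comp_id_left 𝒵.p (𝟙 T) _ _ hμ1 hΨe)
  · intro y' hy' k
    have hkR : R (𝒴.p.map k) := ⟨y', k, hy', inferInstance⟩
    let A : (Stk.sieveCat R).obj := ⟨Over.mk (𝒴.p.map k), hkR⟩
    have h1 : 𝒴.p.IsHomLift (𝒴.p.map k) (Gy.map (toId T A.obj) ≫ ey.hom) :=
      isHomLift_map_toId_comp Gy ey.hom hey A.obj
    obtain ⟨θ, hθ, hθk⟩ := exists_factor h𝒴 (𝒴.p.map k) _ h1 k inferInstance
    have n1 := μ.toNatTrans.naturality (toId T A.obj)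
    change Φ.map (Gy.map (toId T A.obj)) ≫ μ.toNatTrans.app (Over.mk (𝟙 T)) =
      μ.toNatTrans.app A.obj ≫ Ψ.map (Gy.map (toId T A.obj)) at n1
    rw [hμA A] at n1
    have n2 := nat θ (hQA A) hy'
    rw [← hθk]
    simp only [Functor.map_comp, Category.assoc]
    have e : Φ.map ey.hom ≫ Φ.map ey.inv = 𝟙 _ := by
      rw [← Functor.map_comp, Iso.hom_inv_id, CategoryTheory.Functor.map_id]
    exact ext_calc _ _ _ _ _ _ _ _ _ _ e n1 n2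

include hQ h𝒴 hρ nat in
/-- A natural family of morphisms `Φ y ⟶ Ψ y` over identities, given on a class `Q` of objects
closed under sources of morphisms and locally exhaustive, extends (uniquely) to all objects when
the target is a stack. -/
theorem exists_ext (h𝒵s : Stk.IsStack J 𝒵)
    (hloc : ∀ y : 𝒴.obj, ∃ R ∈ J (𝒴.p.obj y), ∀ ⦃V : C⦄ (f : V ⟶ 𝒴.p.obj y), R f →
      ∃ (y' : 𝒴.obj) (k : y' ⟶ y), Q y' ∧ 𝒴.p.IsHomLift f k) :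
    ∃ r : ∀ y : 𝒴.obj, Φ.obj y ⟶ Ψ.obj y,
      (∀ y, 𝒵.p.IsHomLift (𝟙 (𝒴.p.obj y)) (r y)) ∧
      (∀ (y : 𝒴.obj) (y' : 𝒴.obj) (hy' : Q y') (k : y' ⟶ y),
        Φ.map k ≫ r y = ρ y' hy' ≫ Ψ.map k) ∧
      (∀ (y y'' : 𝒴.obj) (f : y ⟶ y''), 𝒴.p.IsHomLift (𝟙 (𝒴.p.obj y)) f →
        Φ.map f ≫ r y'' = r y ≫ Ψ.map f) := by
  have hcov : ∀ y : 𝒴.obj, qSieve Q hQ h𝒴 y ∈ J (𝒴.p.obj y) := by
    intro y
    obtain ⟨R, hR, H⟩ := hloc y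
    exact J.superset_covering (fun V f hf => H f hf) hR
  have hst : ∀ y : 𝒴.obj, Stk.IsStackFor (qSieve Q hQ h𝒴 y) 𝒵 := fun y => h𝒵s.2 _ (hcov y)
  have hfull : ∀ y : 𝒴.obj, (Stk.resSieve (qSieve Q hQ h𝒴 y) 𝒵).Full := fun y => (hst y).full
  have hfaith : ∀ y : 𝒴.obj, (Stk.resSieve (qSieve Q hQ h𝒴 y) 𝒵).Faithful :=
    fun y => (hst y).faithful
  choose r hr1 hr2 using fun y => exists_ext_at Φ Ψ Q hQ h𝒴 h𝒵s.1 ρ hρ nat y (hfull y)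
  refine ⟨r, hr1, hr2, ?_⟩
  intro y y'' f hf
  have hy'' : 𝒴.p.obj y'' = 𝒴.p.obj y := codomain_eq' 𝒴.p _ f hf
  have hΦf : 𝒵.p.IsHomLift (𝟙 (𝒴.p.obj y)) (Φ.map f) := map_isHomLift' Φ _ f hf
  have hΨf : 𝒵.p.IsHomLift (𝟙 (𝒴.p.obj y)) (Ψ.map f) := map_isHomLift' Ψ _ f hf
  have hr'' : 𝒵.p.IsHomLift (𝟙 (𝒴.p.obj y)) (r y'') :=
    isHomLift_id_transport 𝒵.p hy'' _ (hr1 y'')
  have hm : 𝒵.p.IsHomLift (𝟙 (𝒴.p.obj y)) (Φ.map f ≫ r y'') :=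
    isHomLift_comp_id_left 𝒵.p (𝟙 _) _ _ hΦf hr''
  have hm' : 𝒵.p.IsHomLift (𝟙 (𝒴.p.obj y)) (r y ≫ Ψ.map f) :=
    isHomLift_comp_id_left 𝒵.p (𝟙 _) _ _ (hr1 y) hΨf
  refine eq_of_locally_eq (qSieve Q hQ h𝒴 y) h𝒵s.1 (hfaith y) _ _ hm hm' ?_
  rintro V g ⟨y₀, k, hy₀, hk⟩
  refine ⟨Φ.obj y₀, Φ.map k, map_isHomLift' Φ g k hk, ?_⟩
  rw [← Category.assoc, ← Functor.map_comp, hr2 y'' y₀ hy₀ (k ≫ f), ← Category.assoc,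
    hr2 y y₀ hy₀ k, Functor.map_comp, Category.assoc]

end

end Groth.Agent.Helper6.GerbL
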