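import Mathlib
import Groth.Prelude.Def_StGerb
import Groth.Agent.Lib.Helper6.GerbL.Ext

/-!
# Endofunctors of a gerbe acting trivially on the automorphism sheaf of a global object are
fibrewise isomorphic to the identity (helper6)
-/

set_option linter.unusedSectionVars false
set_option linter.unusedVariables false
set_option linter.unusedSimpArgs false
set_option autoImplicit false
set_option linter.style.haveILetI false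
set_option maxHeartbeats 400000

noncomputable section

namespace Groth.Agent.Helper6.GerbL

open CategoryTheory Functor Groth.Agent.Helper2 Groth.Agent.Helper2.FibCatLib
  Groth.Agent.Helper2.StkLib

universe v₃ u₃ v₂ u₂ v u

variable {C : Type u} [Category.{v} C] (J : GrothendieckTopology C)
  {𝒳 : BasedCategory.{v₂, u₂} C}

/-- In a gerbe, two objects over the same base object are locally connected. -/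
theorem isGerbe_loc_conn (h : Gerb.IsGerbe J 𝒳) (y x' : 𝒳.obj)
    (hx' : 𝒳.p.obj x' = 𝒳.p.obj y) :
    ∃ R ∈ J (𝒳.p.obj y), ∀ ⦃V : C⦄ (f : V ⟶ 𝒳.p.obj y), R f →
      ∃ (x₀ : 𝒳.obj) (φ₀ : x₀ ⟶ y) (ψ₀ : x₀ ⟶ x'),
        𝒳.p.IsHomLift f φ₀ ∧ 𝒳.p.IsHomLift f ψ₀ := by
  have hb : (FibCat.selfOver C).p.IsHomLift (𝟙 (𝒳.p.obj y))
      (eqToHom hx'.symm : (FibCat.toSelf 𝒳).obj y ⟶ (FibCat.toSelf 𝒳).obj x') :=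
    IsHomLift.eqToHom_domain_lift_id hx'.symm rfl
  obtain ⟨R, hR, H⟩ := h.2.2 y x' (eqToHom hx'.symm) hb
  refine ⟨R, hR, fun V f hf => ?_⟩
  obtain ⟨x₀, φ₀, ψ₀, h1, h2, -⟩ := H f hf
  exact ⟨x₀, φ₀, ψ₀, h1, h2⟩

/-- An automorphism over the identity as an element of `Gerb.AutO`. -/
def mkAutO (h : FibCat.IsFibGrpd 𝒳.p) (y : 𝒳.obj) (α : y ⟶ y)
    (hα : 𝒳.p.IsHomLift (𝟙 (𝒳.p.obj y)) α) : Gerb.AutO y :=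
  haveI : IsIso α := IsFibGrpd.isIso_of_isHomLift_id 𝒳.p h (S := 𝒳.p.obj y) α
  { hom := ⟨α, hα⟩
    inv := ⟨inv α, by
      haveI : 𝒳.p.IsHomLift (𝟙 (𝒳.p.obj y)) (asIso α).hom := hα
      exact IsHomLift.lift_id_inv 𝒳.p (𝒳.p.obj y) (asIso α)⟩
    hom_inv_id := by
      apply Functor.Fiber.hom_ext
      exact IsIso.hom_inv_id α
    inv_hom_id := by
      apply Functor.Fiber.hom_ext
      exact IsIso.inv_hom_id α }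

@[simp] theorem mkAutO_hom (h : FibCat.IsFibGrpd 𝒳.p) (y : 𝒳.obj) (α : y ⟶ y)
    (hα : 𝒳.p.IsHomLift (𝟙 (𝒳.p.obj y)) α) : (mkAutO h y α hα).hom.1 = α := rfl

section

variable (h𝒳 : Gerb.IsGerbe J 𝒳) (φ : 𝒳 ⥤ᵇ 𝒳) (x : 𝒳.obj)
  (hE : ∀ T : C, Nonempty (T ⟶ 𝒳.p.obj x))
  (hU : ∀ (T : C) (a b : T ⟶ 𝒳.p.obj x), a = b)
  (g : φ.obj x ⟶ x) (hg : 𝒳.p.IsHomLift (𝟙 (𝒳.p.obj x)) g)
  (hconj : ∀ (x' : 𝒳.obj) (c : x' ⟶ x) (g' : φ.obj x' ⟶ x'),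
    𝒳.p.IsHomLift (𝟙 (𝒳.p.obj x')) g' → φ.map c ≫ g = g' ≫ c →
      ∀ α : Gerb.AutO x', φ.map α.hom.1 ≫ g' = g' ≫ α.hom.1)

include h𝒳 hg in
theorem exists_conj (y : 𝒳.obj) (c : y ⟶ x) :
    ∃ g' : φ.obj y ⟶ y, 𝒳.p.IsHomLift (𝟙 (𝒳.p.obj y)) g' ∧ φ.map c ≫ g = g' ≫ c := by
  have hc : 𝒳.p.IsHomLift (𝒳.p.map c) c := inferInstance
  have hφc : 𝒳.p.IsHomLift (𝒳.p.map c) (φ.map c) := map_isHomLift' φ _ c hc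
  have h1 : 𝒳.p.IsHomLift (𝒳.p.map c) (φ.map c ≫ g) :=
    isHomLift_comp_id_right 𝒳.p _ _ g hφc hg
  obtain ⟨θ, hθ, hθc⟩ := exists_factor h𝒳.1.1 (𝒳.p.map c) c hc (φ.map c ≫ g) h1
  exact ⟨θ, hθ, hθc.symm⟩

include h𝒳 hU hg hconj in
theorem conj_indep (y : 𝒳.obj) (c₁ c₂ : y ⟶ x) (g' : φ.obj y ⟶ y)
    (hg' : 𝒳.p.IsHomLift (𝟙 (𝒳.p.obj y)) g') (h1 : φ.map c₁ ≫ g = g' ≫ c₁) :
    φ.map c₂ ≫ g = g' ≫ c₂ := by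
  have hc₁ : 𝒳.p.IsHomLift (𝒳.p.map c₁) c₁ := inferInstance
  have hc₂ : 𝒳.p.IsHomLift (𝒳.p.map c₁) c₂ := by
    rw [hU _ (𝒳.p.map c₁) (𝒳.p.map c₂)]; infer_instance
  obtain ⟨α, hα, hαc⟩ := exists_factor h𝒳.1.1 (𝒳.p.map c₁) c₁ hc₁ c₂ hc₂
  have h2 := hconj y c₁ g' hg' h1 (mkAutO h𝒳.1.1 y α hα)
  rw [mkAutO_hom] at h2
  rw [← hαc, Functor.map_comp, Category.assoc, h1, ← Category.assoc, h2, Category.assoc]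

include h𝒳 hE hU hg hconj in
/-- An endofunctor of a gerbe which acts trivially (through conjugation by `g`) on the
automorphism sheaf of an object `x` over a final object is isomorphic to the identity on every
fibre. -/
theorem exists_fibrewise_iso :
    ∃ ρ : ∀ y : 𝒳.obj, φ.obj y ⟶ y,
      (∀ y, IsIso (ρ y) ∧ 𝒳.p.IsHomLift (𝟙 (𝒳.p.obj y)) (ρ y)) ∧
      (∀ (y y' : 𝒳.obj) (f : y ⟶ y'), 𝒳.p.IsHomLift (𝟙 (𝒳.p.obj y)) f →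
        φ.map f ≫ ρ y' = ρ y ≫ f) := by
  have hfib : FibCat.IsFibGrpd 𝒳.p := h𝒳.1.1
  let Q : 𝒳.obj → Prop := fun y => Nonempty (y ⟶ x)
  have hQ : ∀ {y' y : 𝒳.obj} (k : y' ⟶ y), Q y → Q y' := fun k ⟨c⟩ => ⟨k ≫ c⟩
  have key : ∀ (y : 𝒳.obj) (hy : Q y), ∃ g' : φ.obj y ⟶ y,
      𝒳.p.IsHomLift (𝟙 (𝒳.p.obj y)) g' ∧ ∀ c : y ⟶ x, φ.map c ≫ g = g' ≫ c := by
    rintro y ⟨c⟩
    obtain ⟨g', hg', h1⟩ := exists_conj J h𝒳 φ x g hg y c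
    exact ⟨g', hg', fun c₂ => conj_indep J h𝒳 φ x hU g hg hconj y c c₂ g' hg' h1⟩
  choose ρ₀ hρ₀ hρ₀c using key
  have nat : ∀ {y' y : 𝒳.obj} (k : y' ⟶ y) (hy : Q y) (hy' : Q y'),
      φ.map k ≫ ρ₀ y hy = ρ₀ y' hy' ≫ (BasedFunctor.id 𝒳).map k := by
    intro y' y k hy hy'
    obtain ⟨c⟩ := id hy
    change φ.map k ≫ ρ₀ y hy = ρ₀ y' hy' ≫ k
    have hk : 𝒳.p.IsHomLift (𝒳.p.map k) k := inferInstance
    have hφk : 𝒳.p.IsHomLift (𝒳.p.map k) (φ.map k) := map_isHomLift' φ _ k hk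
    have h1 : 𝒳.p.IsHomLift (𝒳.p.map k) (φ.map k ≫ ρ₀ y hy) :=
      isHomLift_comp_id_right 𝒳.p _ _ _ hφk (hρ₀ y hy)
    have h2 : 𝒳.p.IsHomLift (𝒳.p.map k) (ρ₀ y' hy' ≫ k) :=
      isHomLift_comp_id_left 𝒳.p _ _ _ (hρ₀ y' hy') hk
    refine IsFibGrpd.ext_of_comp 𝒳.p hfib (𝒳.p.map k) c ?_
    rw [Category.assoc, ← hρ₀c y hy c, ← Category.assoc, ← Functor.map_comp, hρ₀c y' hy' (k ≫ c),
      Category.assoc]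
  have hloc : ∀ y : 𝒳.obj, ∃ R ∈ J (𝒳.p.obj y), ∀ ⦃V : C⦄ (f : V ⟶ 𝒳.p.obj y), R f →
      ∃ (y' : 𝒳.obj) (k : y' ⟶ y), Q y' ∧ 𝒳.p.IsHomLift f k := by
    intro y
    obtain ⟨t⟩ := hE (𝒳.p.obj y)
    obtain ⟨xT, c, hc⟩ := IsFibGrpd.exists_lift_of_eq 𝒳.p hfib (rfl : 𝒳.p.obj x = _) t
    have hxT : 𝒳.p.obj xT = 𝒳.p.obj y := domain_eq' 𝒳.p t c hc
    obtain ⟨R, hR, H⟩ := isGerbe_loc_conn J h𝒳 y xT hxT
    refine ⟨R, hR, fun V f hf => ?_⟩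
    obtain ⟨x₀, φ₀, ψ₀, h1, h2⟩ := H f hf
    exact ⟨x₀, φ₀, ⟨ψ₀ ≫ c⟩, h1⟩
  obtain ⟨r, hr1, hr2, hr3⟩ := exists_ext J φ (BasedFunctor.id 𝒳) Q hQ hfib ρ₀ hρ₀ nat h𝒳.1 hloc
  refine ⟨r, fun y => ⟨?_, hr1 y⟩, fun y y' f hf => hr3 y y' f hf⟩
  have := hr1 y
  exact IsFibGrpd.isIso_of_isHomLift_id 𝒳.p hfib (S := 𝒳.p.obj y) (r y)

end

end Groth.Agent.Helper6.GerbL
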