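import Mathlib
import Groth.Prelude.Def_StGerb2
import Groth.Agent.Lib.Helper6.GerbL.Conj

/-!
# A functor between gerbes inducing bijections on the automorphism groups of the pullbacks of a
global object is an equivalence: faithfulness (helper6)
-/

set_option linter.unusedSectionVars false
set_option linter.unusedVariables false
set_option linter.unusedSimpArgs false
set_option autoImplicit false
set_option linter.style.haveILetI false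
set_option maxHeartbeats 400000

noncomputable section

namespace Groth.Agent.Helper6.GerbL

open CategoryTheory Functor Groth.Agent.Helper2 Groth.Agent.Helper2.FibCatLib
  Groth.Agent.Helper2.StkLib

universe v₃ u₃ v₂ u₂ v u

variable {C : Type u} [Category.{v} C] (J : GrothendieckTopology C)
  {𝒳 : BasedCategory.{v₂, u₂} C} {𝒴 : BasedCategory.{v₃, u₃} C}

/-- In a gerbe with an object `s` over a final object, every object locally has pullbacks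
admitting a morphism to `s`. -/
theorem exists_loc_toGlobal (h𝒳 : Gerb.IsGerbe J 𝒳) (s : 𝒳.obj)
    (hE : ∀ T : C, Nonempty (T ⟶ 𝒳.p.obj s)) (y : 𝒳.obj) :
    ∃ R ∈ J (𝒳.p.obj y), ∀ ⦃V : C⦄ (f : V ⟶ 𝒳.p.obj y), R f →
      ∃ (y' : 𝒳.obj) (k : y' ⟶ y), Nonempty (y' ⟶ s) ∧ 𝒳.p.IsHomLift f k := by
  have hfib : FibCat.IsFibGrpd 𝒳.p := h𝒳.1.1
  obtain ⟨t⟩ := hE (𝒳.p.obj y)
  obtain ⟨xT, c, hc⟩ := IsFibGrpd.exists_lift_of_eq 𝒳.p hfib (rfl : 𝒳.p.obj s = _) t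
  have hxT : 𝒳.p.obj xT = 𝒳.p.obj y := domain_eq' 𝒳.p t c hc
  obtain ⟨R, hR, H⟩ := isGerbe_loc_conn J h𝒳 y xT hxT
  refine ⟨R, hR, fun V f hf => ?_⟩
  obtain ⟨x₀, φ₀, ψ₀, h1, h2⟩ := H f hf
  exact ⟨x₀, φ₀, ⟨ψ₀ ≫ c⟩, h1⟩

theorem isGerbe_loc_conn' (h : Gerb.IsGerbe J 𝒳) (y x' : 𝒳.obj) {U : C}
    (hy : 𝒳.p.obj y = U) (hx' : 𝒳.p.obj x' = U) :
    ∃ R ∈ J U, ∀ ⦃V : C⦄ (f : V ⟶ U), R f →
      ∃ (x₀ : 𝒳.obj) (φ₀ : x₀ ⟶ y) (ψ₀ : x₀ ⟶ x'),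
        𝒳.p.IsHomLift f φ₀ ∧ 𝒳.p.IsHomLift f ψ₀ := by
  subst hy
  exact isGerbe_loc_conn J h y x' hx'

/-- Two objects over `U` of a gerbe with a global object `s` are locally connected through an
object admitting a morphism to `s`. -/
theorem exists_loc_conn_toGlobal (h𝒳 : Gerb.IsGerbe J 𝒳) (s : 𝒳.obj)
    (hE : ∀ T : C, Nonempty (T ⟶ 𝒳.p.obj s)) (a b : 𝒳.obj) {U : C} (ha : 𝒳.p.obj a = U)
    (hb : 𝒳.p.obj b = U) :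
    ∃ R ∈ J U, ∀ ⦃V : C⦄ (f : V ⟶ U), R f →
      ∃ (x₀ : 𝒳.obj) (u : x₀ ⟶ a) (v : x₀ ⟶ b), Nonempty (x₀ ⟶ s) ∧
        𝒳.p.IsHomLift f u ∧ 𝒳.p.IsHomLift f v := by
  have hfib : FibCat.IsFibGrpd 𝒳.p := h𝒳.1.1
  obtain ⟨t⟩ := hE U
  obtain ⟨sU, c, hc⟩ := IsFibGrpd.exists_lift_of_eq 𝒳.p hfib (rfl : 𝒳.p.obj s = _) t
  have hsU : 𝒳.p.obj sU = U := domain_eq' 𝒳.p t c hc
  obtain ⟨R₁, hR₁, H₁⟩ := isGerbe_loc_conn' J h𝒳 a sU ha hsU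
  obtain ⟨R₂, hR₂, H₂⟩ := isGerbe_loc_conn' J h𝒳 b sU hb hsU
  refine ⟨R₁ ⊓ R₂, J.intersection_covering hR₁ hR₂, ?_⟩
  rintro V f ⟨hf₁, hf₂⟩
  obtain ⟨x₁, u₁, w₁, hu₁, hw₁⟩ := H₁ f hf₁
  obtain ⟨x₂, u₂, w₂, hu₂, hw₂⟩ := H₂ f hf₂
  obtain ⟨θ, hθ, hθw⟩ := exists_factor hfib f w₂ hw₂ w₁ hw₁
  exact ⟨x₁, u₁, θ ≫ u₂, ⟨w₁ ≫ c⟩, hu₁, isHomLift_comp_id_left 𝒳.p f θ u₂ hθ hu₂⟩

section

variable (h𝒳 : Gerb.IsGerbe J 𝒳) (h𝒴 : Gerb.IsGerbe J 𝒴) (φ : 𝒳 ⥤ᵇ 𝒴) (s : 𝒳.obj)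
  (hE : ∀ T : C, Nonempty (T ⟶ 𝒳.p.obj s))
  (hinj : ∀ (x : 𝒳.obj) (c : x ⟶ s), Function.Injective (Gerb.autMap φ x))

include h𝒳 hinj in
theorem inj_at (x : 𝒳.obj) (c : x ⟶ s) (α : x ⟶ x) (hα : 𝒳.p.IsHomLift (𝟙 (𝒳.p.obj x)) α)
    (h1 : φ.map α = 𝟙 _) : α = 𝟙 x := by
  have h2 : Gerb.autMap φ x (mkAutO h𝒳.1.1 x α hα) = Gerb.autMap φ x 1 := by
    rw [map_one]
    apply Aut.ext; apply Functor.Fiber.hom_ext
    exact h1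
  have h3 := hinj x c h2
  have := congrArg (fun t : Gerb.AutO x => t.hom.1) h3
  exact this

include h𝒳 h𝒴 hE hinj in
theorem fiber_faithful (U : C) (a b : 𝒳.obj) (m m' : a ⟶ b) (hm : 𝒳.p.IsHomLift (𝟙 U) m)
    (hm' : 𝒳.p.IsHomLift (𝟙 U) m') (h : φ.map m = φ.map m') : m = m' := by
  have hfX : FibCat.IsFibGrpd 𝒳.p := h𝒳.1.1
  have hfY : FibCat.IsFibGrpd 𝒴.p := h𝒴.1.1
  have ha : 𝒳.p.obj a = U := domain_eq' 𝒳.p _ m hm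
  subst ha
  have hiso : IsIso m' := IsFibGrpd.isIso_of_isHomLift_id 𝒳.p hfX (S := 𝒳.p.obj a) m'
  have hm'i : 𝒳.p.IsHomLift (𝟙 (𝒳.p.obj a)) (inv m') := by
    haveI : 𝒳.p.IsHomLift (𝟙 (𝒳.p.obj a)) (asIso m').hom := hm'
    exact IsHomLift.lift_id_inv 𝒳.p _ (asIso m')
  have hα : 𝒳.p.IsHomLift (𝟙 (𝒳.p.obj a)) (m ≫ inv m') :=
    isHomLift_comp_id_left 𝒳.p (𝟙 _) _ _ hm hm'i
  have hφα : φ.map (m ≫ inv m') = 𝟙 _ := by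
    rw [Functor.map_comp, h, ← Functor.map_comp, IsIso.hom_inv_id, CategoryTheory.Functor.map_id]
  suffices hα1 : m ≫ inv m' = 𝟙 a by
    have h9 : m = (m ≫ inv m') ≫ m' := by simp
    rw [h9, hα1, Category.id_comp]
  obtain ⟨R, hR, H⟩ := exists_loc_toGlobal J h𝒳 s hE a
  have hfaith : (Stk.resSieve R 𝒳).Faithful := (h𝒳.1.2 R hR).faithful
  refine eq_of_locally_eq R hfX hfaith (m ≫ inv m') (𝟙 a) hα (IsHomLift.id rfl) ?_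
  intro V f hf
  obtain ⟨a', k, ⟨c⟩, hk⟩ := H f hf
  refine ⟨a', k, hk, ?_⟩
  have hkα : 𝒳.p.IsHomLift f (k ≫ m ≫ inv m') := isHomLift_comp_id_right 𝒳.p f k _ hk hα
  obtain ⟨α', hα', hα'k⟩ := exists_factor hfX f k hk (k ≫ m ≫ inv m') hkα
  have hV : 𝒳.p.obj a' = V := domain_eq' 𝒳.p f k hk
  have hα'' : 𝒳.p.IsHomLift (𝟙 (𝒳.p.obj a')) α' := isHomLift_id_transport 𝒳.p hV.symm _ hα'
  have h5 : φ.map α' = 𝟙 _ := by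
    have g1 : 𝒴.p.IsHomLift (𝟙 V) (φ.map α') := map_isHomLift' φ _ α' hα'
    have g2 : 𝒴.p.IsHomLift (𝟙 V) (𝟙 (φ.obj a')) :=
      IsHomLift.id ((φ.w_obj a').trans hV)
    refine IsFibGrpd.ext_of_comp 𝒴.p hfY (𝟙 V) (φ.map k) ?_
    rw [← Functor.map_comp, hα'k, Functor.map_comp, hφα, Category.comp_id, Category.id_comp]
  have h6 := inj_at J h𝒳 φ s hinj a' c α' hα'' h5
  rw [← hα'k, h6, Category.id_comp, Category.comp_id]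

include h𝒳 h𝒴 hE hinj in
theorem faithful_of_inj : φ.toFunctor.Faithful :=
  faithful_of_fiber h𝒳.1.1 h𝒴.1.1 φ (fiber_faithful J h𝒳 h𝒴 φ s hE hinj)

end

end Groth.Agent.Helper6.GerbL
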