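import Mathlib
import Groth.Prelude.Def_StGerb2
import Groth.Agent.Lib.Helper6.GerbL.EqCrit

/-!
# A functor between gerbes inducing bijections on the automorphism groups of the pullbacks of a
global object is an equivalence: fullness (helper6)
-/

set_option linter.unusedSectionVars false
set_option linter.unusedVariables false
set_option linter.unusedSimpArgs false
set_option autoImplicit false
set_option linter.style.haveILetI false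
set_option maxHeartbeats 400000

noncomputable section

namespace Groth.Agent.Helper6.GerbL

open CategoryTheory Functor Groth.Agent.Helper2 Groth.Agent.Helper2.FibCatLib
  Groth.Agent.Helper2.StkLib

universe v₃ u₃ v₂ u₂ v u

variable {C : Type u} [Category.{v} C] (J : GrothendieckTopology C)
  {𝒳 : BasedCategory.{v₂, u₂} C} {𝒴 : BasedCategory.{v₃, u₃} C}

section

variable (h𝒳 : Gerb.IsGerbe J 𝒳) (h𝒴 : Gerb.IsGerbe J 𝒴) (φ : 𝒳 ⥤ᵇ 𝒴) (s : 𝒳.obj)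
  (hE : ∀ T : C, Nonempty (T ⟶ 𝒳.p.obj s))
  (hbij : ∀ (x : 𝒳.obj) (c : x ⟶ s), Function.Bijective (Gerb.autMap φ x))

/-- The structure morphism `G A ⟶ G 𝟙 ≅ a`. -/
def strMor {U : C} (G : FibCat.overCat U ⥤ᵇ 𝒳) {a : 𝒳.obj} (e : G.obj (Over.mk (𝟙 U)) ≅ a)
    (A : Over U) : G.obj A ⟶ a := G.map (toId U A) ≫ e.hom

theorem strMor_isHomLift {U : C} (G : FibCat.overCat U ⥤ᵇ 𝒳) {a : 𝒳.obj}
    (e : G.obj (Over.mk (𝟙 U)) ≅ a) (he : 𝒳.p.IsHomLift (𝟙 U) e.hom) (A : Over U) :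
    𝒳.p.IsHomLift A.hom (strMor G e A) :=
  isHomLift_map_toId_comp G e.hom he A

theorem map_comp_strMor {U : C} (G : FibCat.overCat U ⥤ᵇ 𝒳) {a : 𝒳.obj}
    (e : G.obj (Over.mk (𝟙 U)) ≅ a) {A' A : Over U} (k : A' ⟶ A) :
    G.map k ≫ strMor G e A = strMor G e A' := by
  unfold strMor
  rw [← Category.assoc]
  congr 1
  exact map_comp_toId U G k

/-- The local liftings of `τ`. -/
def Good {U : C} (Ga Gb : FibCat.overCat U ⥤ᵇ 𝒳) {a b : 𝒳.obj}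
    (ea : Ga.obj (Over.mk (𝟙 U)) ≅ a) (eb : Gb.obj (Over.mk (𝟙 U)) ≅ b)
    (τ : φ.obj a ⟶ φ.obj b) (A : Over U) (m : Ga.obj A ⟶ Gb.obj A) : Prop :=
  𝒳.p.IsHomLift (𝟙 A.left) m ∧
    φ.map m ≫ φ.map (strMor Gb eb A) = φ.map (strMor Ga ea A) ≫ τ

/-- The class of objects of the slice over which `a` and `b` are connected through an object
mapping to `s`. -/
def ConnQ (s : 𝒳.obj) {U : C} (a b : 𝒳.obj) (A : Over U) : Prop :=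
  ∃ (x₀ : 𝒳.obj) (u : x₀ ⟶ a) (v : x₀ ⟶ b), Nonempty (x₀ ⟶ s) ∧
    𝒳.p.IsHomLift A.hom u ∧ 𝒳.p.IsHomLift A.hom v

include h𝒳 in
theorem connQ_of_hom {U : C} (a b : 𝒳.obj) {A' A : Over U} (k : A' ⟶ A)
    (hA : ConnQ s a b A) : ConnQ s a b A' := by
  obtain ⟨x₀, u, v, ⟨c⟩, hu, hv⟩ := hA
  have hx₀ : 𝒳.p.obj x₀ = A.left := domain_eq' 𝒳.p _ u hu
  obtain ⟨x₁, w, hw⟩ := IsFibGrpd.exists_lift_of_eq 𝒳.p h𝒳.1.1 hx₀ k.left
  refine ⟨x₁, w ≫ u, w ≫ v, ⟨w ≫ c⟩, ?_, ?_⟩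
  · exact isHomLift_congr' 𝒳.p (Over.w k) _ (isHomLift_comp' 𝒳.p k.left A.hom w u hw hu)
  · exact isHomLift_congr' 𝒳.p (Over.w k) _ (isHomLift_comp' 𝒳.p k.left A.hom w v hw hv)

include h𝒳 h𝒴 hE hbij in
theorem good_unique {U : C} (Ga Gb : FibCat.overCat U ⥤ᵇ 𝒳) {a b : 𝒳.obj}
    (ea : Ga.obj (Over.mk (𝟙 U)) ≅ a) (eb : Gb.obj (Over.mk (𝟙 U)) ≅ b)
    (heb : 𝒳.p.IsHomLift (𝟙 U) eb.hom)
    (τ : φ.obj a ⟶ φ.obj b) (A : Over U) (m m' : Ga.obj A ⟶ Gb.obj A)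
    (hm : Good φ Ga Gb ea eb τ A m) (hm' : Good φ Ga Gb ea eb τ A m') : m = m' := by
  have hfY : FibCat.IsFibGrpd 𝒴.p := h𝒴.1.1
  have h1 : 𝒴.p.IsHomLift (𝟙 A.left) (φ.map m) := map_isHomLift' φ _ m hm.1
  have h2 : 𝒴.p.IsHomLift (𝟙 A.left) (φ.map m') := map_isHomLift' φ _ m' hm'.1
  have h3 : φ.map m = φ.map m' := by
    refine IsFibGrpd.ext_of_comp 𝒴.p hfY (𝟙 A.left) (φ.map (strMor Gb eb A)) ?_
    rw [hm.2, hm'.2]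
  exact fiber_faithful J h𝒳 h𝒴 φ s hE (fun x c => (hbij x c).1) A.left _ _ m m' hm.1 hm'.1 h3

include h𝒳 h𝒴 hbij in
theorem good_exists {U : C} (Ga Gb : FibCat.overCat U ⥤ᵇ 𝒳) {a b : 𝒳.obj}
    (ea : Ga.obj (Over.mk (𝟙 U)) ≅ a) (eb : Gb.obj (Over.mk (𝟙 U)) ≅ b)
    (hea : 𝒳.p.IsHomLift (𝟙 U) ea.hom) (heb : 𝒳.p.IsHomLift (𝟙 U) eb.hom)
    (τ : φ.obj a ⟶ φ.obj b) (hτ : 𝒴.p.IsHomLift (𝟙 U) τ) (A : Over U)
    (hA : ConnQ s a b A) : ∃ m, Good φ Ga Gb ea eb τ A m := by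
  have hfX : FibCat.IsFibGrpd 𝒳.p := h𝒳.1.1
  have hfY : FibCat.IsFibGrpd 𝒴.p := h𝒴.1.1
  obtain ⟨x₀, u, v, ⟨c₀⟩, hu, hv⟩ := hA
  have hπa := strMor_isHomLift Ga ea hea A
  have hπb := strMor_isHomLift Gb eb heb A
  obtain ⟨u1, hu1, hu1u⟩ := exists_factor hfX A.hom (strMor Ga ea A) hπa u hu
  obtain ⟨v1, hv1, hv1v⟩ := exists_factor hfX A.hom (strMor Gb eb A) hπb v hv
  have hu1iso : IsIso u1 := IsFibGrpd.isIso_of_isHomLift_id 𝒳.p hfX (S := A.left) u1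
  have hu1i : 𝒳.p.IsHomLift (𝟙 A.left) (inv u1) := by
    haveI : 𝒳.p.IsHomLift (𝟙 A.left) (asIso u1).hom := hu1
    exact IsHomLift.lift_id_inv 𝒳.p _ (asIso u1)
  have hι : 𝒳.p.IsHomLift (𝟙 A.left) (inv u1 ≫ v1) := isHomLift_comp_id_left 𝒳.p (𝟙 _) _ _ hu1i hv1
  have hιiso : IsIso (inv u1 ≫ v1) := IsFibGrpd.isIso_of_isHomLift_id 𝒳.p hfX (S := A.left) _
  have hφπb : 𝒴.p.IsHomLift A.hom (φ.map (strMor Gb eb A)) := map_isHomLift' φ _ _ hπb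
  have hφπa : 𝒴.p.IsHomLift A.hom (φ.map (strMor Ga ea A)) := map_isHomLift' φ _ _ hπa
  have hφπaτ : 𝒴.p.IsHomLift A.hom (φ.map (strMor Ga ea A) ≫ τ) :=
    isHomLift_comp_id_right 𝒴.p A.hom _ τ hφπa hτ
  obtain ⟨τA, hτA, hτAc⟩ := exists_factor hfY A.hom _ hφπb _ hφπaτ
  have hφι : 𝒴.p.IsHomLift (𝟙 A.left) (φ.map (inv u1 ≫ v1)) := map_isHomLift' φ _ _ hι
  have hφιi : 𝒴.p.IsHomLift (𝟙 A.left) (inv (φ.map (inv u1 ≫ v1))) := by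
    haveI : 𝒴.p.IsHomLift (𝟙 A.left) (asIso (φ.map (inv u1 ≫ v1))).hom := hφι
    exact IsHomLift.lift_id_inv 𝒴.p _ (asIso (φ.map (inv u1 ≫ v1)))
  have hβ : 𝒴.p.IsHomLift (𝟙 A.left) (τA ≫ inv (φ.map (inv u1 ≫ v1))) :=
    isHomLift_comp_id_left 𝒴.p (𝟙 _) _ _ hτA hφιi
  have hGaA : 𝒳.p.obj (Ga.obj A) = A.left := Ga.w_obj A
  have hφGaA : 𝒴.p.obj (φ.obj (Ga.obj A)) = A.left := (φ.w_obj _).trans hGaA
  have hβ' : 𝒴.p.IsHomLift (𝟙 (𝒴.p.obj (φ.obj (Ga.obj A)))) (τA ≫ inv (φ.map (inv u1 ≫ v1))) :=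
    isHomLift_id_transport 𝒴.p hφGaA.symm _ hβ
  obtain ⟨α, hα⟩ := (hbij (Ga.obj A) (inv u1 ≫ c₀)).2
    (mkAutO hfY (φ.obj (Ga.obj A)) (τA ≫ inv (φ.map (inv u1 ≫ v1))) hβ')
  have hα' : φ.map α.hom.1 = τA ≫ inv (φ.map (inv u1 ≫ v1)) := by
    have := congrArg (fun t : Gerb.AutO (φ.obj (Ga.obj A)) => t.hom.1) hα
    simpa using this
  have hαl : 𝒳.p.IsHomLift (𝟙 A.left) α.hom.1 := isHomLift_id_transport 𝒳.p hGaA _ α.hom.2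
  refine ⟨α.hom.1 ≫ inv u1 ≫ v1, isHomLift_comp_id_left 𝒳.p (𝟙 _) _ _ hαl hι, ?_⟩
  rw [Functor.map_comp, hα', Category.assoc, Category.assoc, IsIso.inv_hom_id_assoc, hτAc]

include h𝒳 h𝒴 hE hbij in
theorem fiber_full (U : C) (a b : 𝒳.obj) (ha : 𝒳.p.obj a = U) (hb : 𝒳.p.obj b = U)
    (τ : φ.obj a ⟶ φ.obj b) (hτ : 𝒴.p.IsHomLift (𝟙 U) τ) : ∃ m : a ⟶ b, φ.map m = τ := by
  have hfX : FibCat.IsFibGrpd 𝒳.p := h𝒳.1.1
  have hfY : FibCat.IsFibGrpd 𝒴.p := h𝒴.1.1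
  obtain ⟨Ga, ea, hea⟩ := exists_functor_of_obj hfX a ha
  obtain ⟨Gb, eb, heb⟩ := exists_functor_of_obj hfX b hb
  have hinj : ∀ (x : 𝒳.obj) (c : x ⟶ s), Function.Injective (Gerb.autMap φ x) :=
    fun x c => (hbij x c).1
  haveI : φ.toFunctor.Faithful := faithful_of_inj J h𝒳 h𝒴 φ s hE hinj
  have key : ∀ (A : (FibCat.overCat U).obj) (hA : ConnQ s a b A),
      ∃ m, Good φ Ga Gb ea eb τ A m :=
    fun A hA => good_exists J h𝒳 h𝒴 φ s hbij Ga Gb ea eb hea heb τ hτ A hA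
  choose ρ hρ using key
  have hQ : ∀ {A' A : (FibCat.overCat U).obj} (k : A' ⟶ A), ConnQ s a b A → ConnQ s a b A' :=
    fun k hA => connQ_of_hom J h𝒳 s a b k hA
  have hρl : ∀ (A : (FibCat.overCat U).obj) (hA : ConnQ s a b A),
      𝒳.p.IsHomLift (𝟙 ((FibCat.overCat U).p.obj A)) (ρ A hA) := fun A hA => (hρ A hA).1
  have nat : ∀ {A' A : (FibCat.overCat U).obj} (k : A' ⟶ A) (hA : ConnQ s a b A)
      (hA' : ConnQ s a b A'), Ga.map k ≫ ρ A hA = ρ A' hA' ≫ Gb.map k := by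
    intro A' A k hA hA'
    apply φ.toFunctor.map_injective
    have hk1 : 𝒳.p.IsHomLift k.left (Ga.map k) := isHomLift_map_over U Ga k
    have hk2 : 𝒳.p.IsHomLift k.left (Gb.map k) := isHomLift_map_over U Gb k
    have l1 : 𝒳.p.IsHomLift k.left (Ga.map k ≫ ρ A hA) :=
      isHomLift_comp_id_right 𝒳.p k.left _ _ hk1 (hρ A hA).1
    have l2 : 𝒳.p.IsHomLift k.left (ρ A' hA' ≫ Gb.map k) :=
      isHomLift_comp_id_left 𝒳.p k.left _ _ (hρ A' hA').1 hk2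
    have l1' : 𝒴.p.IsHomLift k.left (φ.map (Ga.map k ≫ ρ A hA)) := map_isHomLift' φ _ _ l1
    have l2' : 𝒴.p.IsHomLift k.left (φ.map (ρ A' hA' ≫ Gb.map k)) := map_isHomLift' φ _ _ l2
    refine IsFibGrpd.ext_of_comp 𝒴.p hfY k.left (φ.map (strMor Gb eb A)) ?_
    change φ.map (Ga.map k ≫ ρ A hA) ≫ _ = φ.map (ρ A' hA' ≫ Gb.map k) ≫ _
    have e1 : φ.map (Ga.map k) ≫ φ.map (strMor Ga ea A) = φ.map (strMor Ga ea A') := by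
      rw [← Functor.map_comp, map_comp_strMor]
    have e2 : φ.map (Gb.map k) ≫ φ.map (strMor Gb eb A) = φ.map (strMor Gb eb A') := by
      rw [← Functor.map_comp, map_comp_strMor]
    rw [Functor.map_comp, Category.assoc, (hρ A hA).2, reassoc_of% e1,
      Functor.map_comp, Category.assoc, e2, (hρ A' hA').2]
  obtain ⟨R, hR, H⟩ := exists_loc_conn_toGlobal J h𝒳 s hE a b ha hb
  have hloc : ∀ A : (FibCat.overCat U).obj, ∃ R' ∈ J ((FibCat.overCat U).p.obj A),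
      ∀ ⦃V : C⦄ (f : V ⟶ (FibCat.overCat U).p.obj A), R' f →
        ∃ (A' : (FibCat.overCat U).obj) (k : A' ⟶ A), ConnQ s a b A' ∧
          (FibCat.overCat U).p.IsHomLift f k := by
    intro A
    refine ⟨R.pullback A.hom, J.pullback_stable A.hom hR, fun V f hf => ?_⟩
    obtain ⟨x₀, u, v, hc, hu, hv⟩ := H (f ≫ A.hom) hf
    exact ⟨Over.mk (f ≫ A.hom), Over.homMk f, ⟨x₀, u, v, hc, hu, hv⟩,
      over_isHomLift U (Over.homMk f : Over.mk (f ≫ A.hom) ⟶ A)⟩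
  obtain ⟨r, hr1, hr2, -⟩ := exists_ext J Ga Gb (ConnQ s a b) hQ (isFibGrpd_overCat U) ρ hρl nat
    h𝒳.1 hloc
  have hfaith : (Stk.resSieve R 𝒴).Faithful := (h𝒴.1.2 R hR).faithful
  have hrid : 𝒳.p.IsHomLift (𝟙 U) (r (Over.mk (𝟙 U))) := hr1 (Over.mk (𝟙 U))
  have heai : 𝒳.p.IsHomLift (𝟙 U) ea.inv := IsHomLift.lift_id_inv 𝒳.p U ea
  have hm : 𝒳.p.IsHomLift (𝟙 U) (ea.inv ≫ r (Over.mk (𝟙 U)) ≫ eb.hom) :=
    isHomLift_comp_id_left 𝒳.p (𝟙 U) _ _ heai (isHomLift_comp_id_left 𝒳.p (𝟙 U) _ _ hrid heb)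
  refine ⟨ea.inv ≫ r (Over.mk (𝟙 U)) ≫ eb.hom, ?_⟩
  refine eq_of_locally_eq R hfY hfaith _ _ (map_isHomLift' φ _ _ hm) hτ ?_
  intro V f hf
  obtain ⟨x₀, u, v, hc, hu, hv⟩ := H f hf
  have hA' : ConnQ s a b (Over.mk f) := ⟨x₀, u, v, hc, hu, hv⟩
  refine ⟨φ.obj (Ga.obj (Over.mk f)), φ.map (strMor Ga ea (Over.mk f)),
    map_isHomLift' φ _ _ (strMor_isHomLift Ga ea hea (Over.mk f)), ?_⟩
  have e1 := hr2 (Over.mk (𝟙 U)) (Over.mk f) hA' (toId U (Over.mk f))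
  rw [← (hρ _ hA').2, ← Functor.map_comp, ← Functor.map_comp]
  congr 1
  unfold strMor
  simp only [Category.assoc, Iso.hom_inv_id_assoc]
  rw [reassoc_of% e1]

include h𝒳 h𝒴 hE hbij in
theorem full_of_bij : φ.toFunctor.Full :=
  full_of_fiber h𝒳.1.1 h𝒴.1.1 φ (fiber_full J h𝒳 h𝒴 φ s hE hbij)

include h𝒳 h𝒴 hE hbij in
/-- A functor between gerbes which is bijective on the automorphism groups of all pullbacks of an
object over a final object is an equivalence over the base. -/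
theorem isEquivOver_of_bij : FibCat.IsEquivOver φ := by
  have hfX : FibCat.IsFibGrpd 𝒳.p := h𝒳.1.1
  have hfY : FibCat.IsFibGrpd 𝒴.p := h𝒴.1.1
  haveI : φ.toFunctor.Faithful := faithful_of_inj J h𝒳 h𝒴 φ s hE (fun x c => (hbij x c).1)
  haveI : φ.toFunctor.Full := full_of_bij J h𝒳 h𝒴 φ s hE hbij
  refine isEquivOver_of_fullyFaithful_of_exists_iso φ (fun z => ?_)
  obtain ⟨t⟩ := hE (𝒴.p.obj z)
  obtain ⟨sT, c, hc⟩ := IsFibGrpd.exists_lift_of_eq 𝒳.p hfX (rfl : 𝒳.p.obj s = _) t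
  have hsT : 𝒳.p.obj sT = 𝒴.p.obj z := domain_eq' 𝒳.p t c hc
  have hφsT : 𝒴.p.obj (φ.obj sT) = 𝒴.p.obj z := (φ.w_obj sT).trans hsT
  obtain ⟨R, hR, H⟩ := isGerbe_loc_conn' J h𝒴 z (φ.obj sT) rfl hφsT
  have hst := h𝒳.1.2 R hR
  have hst' := h𝒴.1.2 R hR
  refine exists_iso_of_locally_essImage R hfX hfY hst.essSurj hst'.full φ z rfl ?_
  intro V f hf
  obtain ⟨z₀, u, v, hu, hv⟩ := H f hf
  obtain ⟨sV, w, hw⟩ := IsFibGrpd.exists_lift_of_eq 𝒳.p hfX hsT f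
  have hφw : 𝒴.p.IsHomLift f (φ.map w) := map_isHomLift' φ f w hw
  obtain ⟨θ, hθ, hθv⟩ := exists_factor hfY f v hv (φ.map w) hφw
  exact ⟨sV, θ ≫ u, isHomLift_comp_id_left 𝒴.p f θ u hθ hu⟩

end

end Groth.Agent.Helper6.GerbL
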