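import Mathlib
import Groth.Prelude.Def_StGerb
import Groth.Agent.Lib.Helper6.GerbL.Ext

/-!
# Extension of natural families into a stack: full naturality (helper6)
-/

set_option linter.unusedSectionVars false
set_option linter.unusedVariables false
set_option linter.unusedSimpArgs false
set_option autoImplicit false
set_option linter.style.haveILetI false
set_option maxHeartbeats 400000

noncomputable section

namespace Groth.Agent.Helper6.GerbL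

open CategoryTheory Functor Groth.Agent.Helper2 Groth.Agent.Helper2.FibCatLib
  Groth.Agent.Helper2.StkLib

universe v₃ u₃ v₂ u₂ v u

variable {C : Type u} [Category.{v} C] (J : GrothendieckTopology C)
  {𝒴 : BasedCategory.{v₂, u₂} C} {𝒵 : BasedCategory.{v₃, u₃} C}

/-- Two morphisms over the same arrow of the base which agree locally on the source agree. -/
theorem eq_of_locally_eq' {T T' : C} (R : Sieve T) (h𝒵 : FibCat.IsFibGrpd 𝒵.p)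
    (hR : (Stk.resSieve R 𝒵).Faithful) (t : T ⟶ T') {a b : 𝒵.obj} (m m' : a ⟶ b)
    (hm : 𝒵.p.IsHomLift t m) (hm' : 𝒵.p.IsHomLift t m')
    (hloc : ∀ ⦃V : C⦄ (f : V ⟶ T), R f → ∃ (a' : 𝒵.obj) (ψ : a' ⟶ a), 𝒵.p.IsHomLift f ψ ∧
      ψ ≫ m = ψ ≫ m') : m = m' := by
  obtain ⟨n, hn, hnm⟩ := exists_factor h𝒵 t m' hm' m hm
  have ha : 𝒵.p.obj a = T := domain_eq' 𝒵.p t m hm
  have hid : 𝒵.p.IsHomLift (𝟙 T) (𝟙 a) := IsHomLift.id ha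
  have hn1 : n = 𝟙 a := by
    refine eq_of_locally_eq R h𝒵 hR n (𝟙 a) hn hid ?_
    intro V f hf
    obtain ⟨a', ψ, hψ, hψm⟩ := hloc f hf
    refine ⟨a', ψ, hψ, ?_⟩
    have h1 : 𝒵.p.IsHomLift f (ψ ≫ n) := isHomLift_comp_id_right 𝒵.p f ψ n hψ hn
    have h2 : 𝒵.p.IsHomLift f (ψ ≫ 𝟙 a) := isHomLift_comp_id_right 𝒵.p f ψ _ hψ hid
    refine IsFibGrpd.ext_of_comp 𝒵.p h𝒵 f m' ?_
    rw [Category.assoc, hnm, Category.comp_id, hψm]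
  rw [← hnm, hn1, Category.id_comp]

section

variable (Φ Ψ : 𝒴 ⥤ᵇ 𝒵) (Q : 𝒴.obj → Prop)
  (hQ : ∀ {y' y : 𝒴.obj} (k : y' ⟶ y), Q y → Q y')
  (h𝒴 : FibCat.IsFibGrpd 𝒴.p)
  (ρ : ∀ y : 𝒴.obj, Q y → (Φ.obj y ⟶ Ψ.obj y))
  (hρ : ∀ (y : 𝒴.obj) (hy : Q y), 𝒵.p.IsHomLift (𝟙 (𝒴.p.obj y)) (ρ y hy))
  (nat : ∀ {y' y : 𝒴.obj} (k : y' ⟶ y) (hy : Q y) (hy' : Q y'),
    Φ.map k ≫ ρ y hy = ρ y' hy' ≫ Ψ.map k)

include hQ h𝒴 hρ nat in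
theorem exists_ext_nat (h𝒵s : Stk.IsStack J 𝒵)
    (hloc : ∀ y : 𝒴.obj, ∃ R ∈ J (𝒴.p.obj y), ∀ ⦃V : C⦄ (f : V ⟶ 𝒴.p.obj y), R f →
      ∃ (y' : 𝒴.obj) (k : y' ⟶ y), Q y' ∧ 𝒴.p.IsHomLift f k) :
    ∃ r : ∀ y : 𝒴.obj, Φ.obj y ⟶ Ψ.obj y,
      (∀ y, 𝒵.p.IsHomLift (𝟙 (𝒴.p.obj y)) (r y)) ∧
      (∀ (y : 𝒴.obj) (hy : Q y), r y = ρ y hy) ∧
      (∀ {y y'' : 𝒴.obj} (f : y ⟶ y''), Φ.map f ≫ r y'' = r y ≫ Ψ.map f) := by
  obtain ⟨r, hr1, hr2, -⟩ := exists_ext J Φ Ψ Q hQ h𝒴 ρ hρ nat h𝒵s hloc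
  refine ⟨r, hr1, ?_, ?_⟩
  · intro y hy
    have := hr2 y y hy (𝟙 y)
    simpa using this
  · intro y y'' f
    obtain ⟨R, hR, H⟩ := hloc y
    have hfaith : (Stk.resSieve R 𝒵).Faithful := (h𝒵s.2 R hR).faithful
    have hf : 𝒴.p.IsHomLift (𝒴.p.map f) f := inferInstance
    have hΦf : 𝒵.p.IsHomLift (𝒴.p.map f) (Φ.map f) := map_isHomLift' Φ _ f hf
    have hΨf : 𝒵.p.IsHomLift (𝒴.p.map f) (Ψ.map f) := map_isHomLift' Ψ _ f hf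
    have hm : 𝒵.p.IsHomLift (𝒴.p.map f) (Φ.map f ≫ r y'') :=
      isHomLift_comp_id_right 𝒵.p _ _ _ hΦf (hr1 y'')
    have hm' : 𝒵.p.IsHomLift (𝒴.p.map f) (r y ≫ Ψ.map f) :=
      isHomLift_comp_id_left 𝒵.p _ _ _ (hr1 y) hΨf
    refine eq_of_locally_eq' R h𝒵s.1 hfaith (𝒴.p.map f) _ _ hm hm' ?_
    intro V g hg
    obtain ⟨y₀, k, hy₀, hk⟩ := H g hg
    refine ⟨Φ.obj y₀, Φ.map k, map_isHomLift' Φ g k hk, ?_⟩
    rw [← Category.assoc, ← Functor.map_comp, hr2 y'' y₀ hy₀ (k ≫ f), ← Category.assoc,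
      hr2 y y₀ hy₀ k, Functor.map_comp, Category.assoc]

end

end Groth.Agent.Helper6.GerbL
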