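import Mathlib
import Groth.Prelude.Def_StGerb
import Groth.Agent.Lib.Helper6.GerbL.ExtNat
import Groth.Agent.Lib.Helper6.GerbL.EqCrit

/-!
# The slice of a category over `C` over an object of `C` (helper6)
-/

set_option linter.unusedSectionVars false
set_option linter.unusedVariables false
set_option linter.unusedSimpArgs false
set_option autoImplicit false
set_option linter.style.haveILetI false
set_option maxHeartbeats 400000

noncomputable section

namespace Groth.Agent.Helper6.GerbL

open CategoryTheory Functor Groth.Agent.Helper2 Groth.Agent.Helper2.FibCatLib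
  Groth.Agent.Helper2.StkLib

universe v₂ u₂ v u

variable {C : Type u} [Category.{v} C] (𝒮 : BasedCategory.{v₂, u₂} C) (U : C)

/-- The category of pairs `(x, h : p x ⟶ U)`, as a category over `C`. -/
abbrev sl : BasedCategory.{v₂, max u₂ v} C :=
  BasedCategory.ofFunctor (CostructuredArrow.proj 𝒮.p U ⋙ 𝒮.p)

/-- The forgetful functor from the slice. -/
def slFor : sl 𝒮 U ⥤ᵇ 𝒮 where
  toFunctor := CostructuredArrow.proj 𝒮.p U
  w := rfl

theorem isFibGrpd_proj : FibCat.IsFibGrpd (CostructuredArrow.proj 𝒮.p U) := by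
  apply IsFibGrpd.mk'
  · intro x V f
    change V ⟶ x.left at f
    refine ⟨CostructuredArrow.mk (𝒮.p.map f ≫ x.hom), CostructuredArrow.homMk f rfl, rfl, ?_⟩
    change f = 𝟙 _ ≫ f
    rw [Category.id_comp]
  · intro y x z φ ψ g hg
    change z.left ⟶ y.left at g
    change g ≫ φ.left = ψ.left at hg
    have w : 𝒮.p.map g ≫ y.hom = z.hom := by
      rw [← CostructuredArrow.w φ, ← Category.assoc, ← Functor.map_comp, hg, CostructuredArrow.w ψ]
    refine ⟨CostructuredArrow.homMk g w, ⟨rfl, ?_⟩, ?_⟩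
    · apply CostructuredArrow.hom_ext
      exact hg
    · rintro χ ⟨h1, h2⟩
      apply CostructuredArrow.hom_ext
      exact h1

theorem isFibGrpd_sl (h𝒮 : FibCat.IsFibGrpd 𝒮.p) : FibCat.IsFibGrpd (sl 𝒮 U).p :=
  isFibGrpd_comp _ _ (isFibGrpd_proj 𝒮 U) h𝒮

theorem sl_isHomLift_iff {R S : C} (f : R ⟶ S) {a b : (sl 𝒮 U).obj} (k : a ⟶ b) :
    (sl 𝒮 U).p.IsHomLift f k ↔ 𝒮.p.IsHomLift f k.left :=
  (BasedFunctor.isHomLift_iff (slFor 𝒮 U) f k).symm

end Groth.Agent.Helper6.GerbL
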