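import Mathlib
import Groth.Prelude.Def_StGerb
import Groth.Agent.Lib.Helper6.GerbL.Slice

/-!
# The band of a gerbe with commutative automorphism groups: the presheaf of groups (helper6)
-/

set_option linter.unusedSectionVars false
set_option linter.unusedVariables false
set_option linter.unusedSimpArgs false
set_option autoImplicit false
set_option linter.style.haveILetI false
set_option maxHeartbeats 400000

noncomputable section

namespace Groth.Agent.Helper6.GerbL

open CategoryTheory Functor Opposite Groth.Agent.Helper2 Groth.Agent.Helper2.FibCatLib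
  Groth.Agent.Helper2.StkLib

universe v u

variable {C : Type u} [Category.{v} C] (𝒮 : BasedCategory.{v, max u v} C)

theorem autO_mul_hom {x : 𝒮.obj} (α β : Gerb.AutO x) : (α * β).hom.1 = β.hom.1 ≫ α.hom.1 := rfl

theorem autO_one_hom {x : 𝒮.obj} : (1 : Gerb.AutO x).hom.1 = 𝟙 x := rfl

theorem autO_inv_hom {x : 𝒮.obj} (α : Gerb.AutO x) : (α⁻¹).hom.1 = α.inv.1 := rfl

theorem autO_hom_inv {x : 𝒮.obj} (α : Gerb.AutO x) : α.hom.1 ≫ α.inv.1 = 𝟙 x :=
  congrArg Subtype.val α.hom_inv_id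

theorem autO_inv_hom_id {x : 𝒮.obj} (α : Gerb.AutO x) : α.inv.1 ≫ α.hom.1 = 𝟙 x :=
  congrArg Subtype.val α.inv_hom_id

theorem autO_ext {x : 𝒮.obj} {α β : Gerb.AutO x} (h : α.hom.1 = β.hom.1) : α = β := by
  apply Aut.ext; apply Functor.Fiber.hom_ext; exact h

/-- The natural automorphisms of the identity of the slice of `𝒮` over `U`. -/
def natAut (U : C) : Subgroup (∀ (x : 𝒮.obj) (h : 𝒮.p.obj x ⟶ U), Gerb.AutO x) where
  carrier := {a | ∀ {x' x : 𝒮.obj} (φ : x' ⟶ x) (h : 𝒮.p.obj x ⟶ U) (h' : 𝒮.p.obj x' ⟶ U),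
    𝒮.p.map φ ≫ h = h' → (a x' h').hom.1 ≫ φ = φ ≫ (a x h).hom.1}
  mul_mem' := by
    intro a b ha hb x' x φ h h' e
    change ((a x' h') * (b x' h')).hom.1 ≫ φ = φ ≫ ((a x h) * (b x h)).hom.1
    rw [autO_mul_hom, autO_mul_hom, Category.assoc, ha φ h h' e, ← Category.assoc, hb φ h h' e,
      Category.assoc]
  one_mem' := by
    intro x' x φ h h' e
    change (1 : Gerb.AutO x').hom.1 ≫ φ = φ ≫ (1 : Gerb.AutO x).hom.1
    rw [autO_one_hom, autO_one_hom, Category.id_comp, Category.comp_id]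
  inv_mem' := by
    intro a ha x' x φ h h' e
    change ((a x' h')⁻¹).hom.1 ≫ φ = φ ≫ ((a x h)⁻¹).hom.1
    rw [autO_inv_hom, autO_inv_hom]
    have h1 := ha φ h h' e
    calc (a x' h').inv.1 ≫ φ = (a x' h').inv.1 ≫ φ ≫ (a x h).hom.1 ≫ (a x h).inv.1 := by
          rw [autO_hom_inv, Category.comp_id]
      _ = (a x' h').inv.1 ≫ ((a x' h').hom.1 ≫ φ) ≫ (a x h).inv.1 := by
          rw [h1, Category.assoc]
      _ = φ ≫ (a x h).inv.1 := by
          rw [Category.assoc, ← Category.assoc, autO_inv_hom_id, Category.id_comp]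

/-- Restriction of natural automorphisms along `g : V ⟶ U`. -/
def resHom {U V : C} (g : V ⟶ U) : natAut 𝒮 U →* natAut 𝒮 V where
  toFun a := ⟨fun x h => a.1 x (h ≫ g), fun φ h h' e =>
    a.2 φ (h ≫ g) (h' ≫ g) (by rw [← Category.assoc, e])⟩
  map_one' := rfl
  map_mul' _ _ := rfl

@[simp] theorem resHom_apply {U V : C} (g : V ⟶ U) (a : natAut 𝒮 U) (x : 𝒮.obj)
    (h : 𝒮.p.obj x ⟶ V) : (resHom 𝒮 g a).1 x h = a.1 x (h ≫ g) := rfl

/-- The presheaf of groups `U ↦ Aut(id_{𝒮/U})`. -/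
def bandPsh : Cᵒᵖ ⥤ GrpCat.{max u v} where
  obj U := GrpCat.of (natAut 𝒮 U.unop)
  map g := GrpCat.ofHom (resHom 𝒮 g.unop)
  map_id U := by
    apply GrpCat.hom_ext
    apply MonoidHom.ext
    intro a
    apply Subtype.ext
    funext x h
    change a.1 x (h ≫ 𝟙 _) = a.1 x h
    rw [Category.comp_id]
  map_comp f g := by
    apply GrpCat.hom_ext
    apply MonoidHom.ext
    intro a
    apply Subtype.ext
    funext x h
    change a.1 x (h ≫ g.unop ≫ f.unop) = a.1 x ((h ≫ g.unop) ≫ f.unop)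
    rw [Category.assoc]

end Groth.Agent.Helper6.GerbL
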