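import Mathlib
import Groth.Prelude.Def_StGerb
import Groth.Agent.Lib.Helper6.GerbL.Band

/-!
# The band of a gerbe with commutative automorphism groups: evaluation is an isomorphism (helper6)
-/

set_option linter.unusedSectionVars false
set_option linter.unusedVariables false
set_option linter.unusedSimpArgs false
set_option autoImplicit false
set_option linter.style.haveILetI false
set_option maxHeartbeats 400000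

noncomputable section

namespace Groth.Agent.Helper6.GerbL

open CategoryTheory Functor Opposite Groth.Agent.Helper2 Groth.Agent.Helper2.FibCatLib
  Groth.Agent.Helper2.StkLib

universe v u

variable {C : Type u} [Category.{v} C] (J : GrothendieckTopology C)
  (𝒮 : BasedCategory.{v, max u v} C)

theorem exists_loc_conn_over (h𝒮 : Gerb.IsGerbe J 𝒮) (x z : 𝒮.obj)
    (h : 𝒮.p.obj z ⟶ 𝒮.p.obj x) :
    ∃ R ∈ J (𝒮.p.obj z), ∀ ⦃V : C⦄ (f : V ⟶ 𝒮.p.obj z), R f →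
      ∃ (z₀ : 𝒮.obj) (φ₀ : z₀ ⟶ z) (ψ : z₀ ⟶ x), 𝒮.p.IsHomLift f φ₀ ∧
        𝒮.p.map ψ = 𝒮.p.map φ₀ ≫ h := by
  have hfib : FibCat.IsFibGrpd 𝒮.p := h𝒮.1.1
  obtain ⟨xh, c, e, hc⟩ := IsFibGrpd.exists_lift' 𝒮.p hfib x h
  obtain ⟨R, hR, H⟩ := isGerbe_loc_conn' J h𝒮 z xh rfl e
  refine ⟨R, hR, fun V f hf => ?_⟩
  obtain ⟨z₀, φ₀, ψ₀, h1, h2⟩ := H f hf
  refine ⟨z₀, φ₀, ψ₀ ≫ c, h1, ?_⟩
  rw [Functor.map_comp, hc, IsHomLift.fac' 𝒮.p f ψ₀, IsHomLift.fac' 𝒮.p f φ₀]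
  simp

/-- Evaluation of a natural automorphism at `(x, 𝟙)`. -/
def evalHom (x : 𝒮.obj) : natAut 𝒮 (𝒮.p.obj x) →* Gerb.AutO x where
  toFun a := a.1 x (𝟙 _)
  map_one' := rfl
  map_mul' _ _ := rfl

theorem evalHom_injective (h𝒮 : Gerb.IsGerbe J 𝒮) (x : 𝒮.obj) :
    Function.Injective (evalHom 𝒮 x) := by
  have hfib : FibCat.IsFibGrpd 𝒮.p := h𝒮.1.1
  rw [injective_iff_map_eq_one]
  intro a ha
  apply Subtype.ext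
  funext z h
  change a.1 z h = 1
  apply autO_ext
  rw [autO_one_hom]
  obtain ⟨R, hR, H⟩ := exists_loc_conn_over J 𝒮 h𝒮 x z h
  have hfaith : (Stk.resSieve R 𝒮).Faithful := (h𝒮.1.2 R hR).faithful
  refine eq_of_locally_eq R hfib hfaith _ (𝟙 z) (a.1 z h).hom.2 (IsHomLift.id rfl) ?_
  intro V f hf
  obtain ⟨z₀, φ₀, ψ, hφ₀, hψ⟩ := H f hf
  refine ⟨z₀, φ₀, hφ₀, ?_⟩
  have n1 := a.2 φ₀ h (𝒮.p.map φ₀ ≫ h) rfl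
  have n2 := a.2 ψ (𝟙 _) (𝒮.p.map φ₀ ≫ h) (by rw [Category.comp_id, hψ])
  have ha' : (a.1 x (𝟙 _)).hom.1 = 𝟙 x := by
    have := congrArg (fun t : Gerb.AutO x => t.hom.1) ha
    exact this
  rw [ha', Category.comp_id] at n2
  have h3 : (a.1 z₀ (𝒮.p.map φ₀ ≫ h)).hom.1 = 𝟙 z₀ := by
    have i1 : 𝒮.p.IsHomLift (𝟙 (𝒮.p.obj z₀)) (a.1 z₀ (𝒮.p.map φ₀ ≫ h)).hom.1 :=
      (a.1 z₀ (𝒮.p.map φ₀ ≫ h)).hom.2
    have i2 : 𝒮.p.IsHomLift (𝟙 (𝒮.p.obj z₀)) (𝟙 z₀) := IsHomLift.id rfl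
    refine IsFibGrpd.ext_of_comp 𝒮.p hfib (𝟙 (𝒮.p.obj z₀)) ψ ?_
    rw [n2, Category.id_comp]
  rw [← n1, h3, Category.id_comp, Category.comp_id]

section Surj

variable (h𝒮 : Gerb.IsGerbe J 𝒮) (hcomm : ∀ (x : 𝒮.obj) (α β : Gerb.AutO x), α * β = β * α)

include h𝒮 hcomm in
/-- The conjugate of `β` along a morphism `ψ₀ : y ⟶ x`; it only depends on the image of `ψ₀`. -/
theorem exists_conjAut (x : 𝒮.obj) (β : Gerb.AutO x) (y : 𝒮.obj) (ψ₀ : y ⟶ x) :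
    ∃ b : y ⟶ y, 𝒮.p.IsHomLift (𝟙 (𝒮.p.obj y)) b ∧
      ∀ ψ : y ⟶ x, 𝒮.p.map ψ = 𝒮.p.map ψ₀ → b ≫ ψ = ψ ≫ β.hom.1 := by
  have hfib : FibCat.IsFibGrpd 𝒮.p := h𝒮.1.1
  have hψ₀ : 𝒮.p.IsHomLift (𝒮.p.map ψ₀) ψ₀ := inferInstance
  have hβ : 𝒮.p.IsHomLift (𝟙 (𝒮.p.obj x)) β.hom.1 := β.hom.2
  have h1 : 𝒮.p.IsHomLift (𝒮.p.map ψ₀) (ψ₀ ≫ β.hom.1) :=
    isHomLift_comp_id_right 𝒮.p _ _ _ hψ₀ hβ
  obtain ⟨b, hb, hbψ⟩ := exists_factor hfib (𝒮.p.map ψ₀) ψ₀ hψ₀ (ψ₀ ≫ β.hom.1) h1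
  refine ⟨b, hb, ?_⟩
  intro ψ hψ
  have hψl : 𝒮.p.IsHomLift (𝒮.p.map ψ₀) ψ := by rw [← hψ]; infer_instance
  obtain ⟨α, hα, hαψ⟩ := exists_factor hfib (𝒮.p.map ψ₀) ψ₀ hψ₀ ψ hψl
  have hc := hcomm y (mkAutO hfib y b hb) (mkAutO hfib y α hα)
  have hc' : α ≫ b = b ≫ α := by
    have := congrArg (fun t : Gerb.AutO y => t.hom.1) hc
    simpa [autO_mul_hom] using this
  rw [← hαψ, ← Category.assoc, ← hc', Category.assoc, hbψ, Category.assoc]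

include h𝒮 hcomm in
theorem evalHom_surjective (x : 𝒮.obj) : Function.Surjective (evalHom 𝒮 x) := by
  intro β
  have hfib : FibCat.IsFibGrpd 𝒮.p := h𝒮.1.1
  let Q : (sl 𝒮 (𝒮.p.obj x)).obj → Prop := fun y => ∃ ψ : y.left ⟶ x, 𝒮.p.map ψ = y.hom
  have hQ : ∀ {y' y : (sl 𝒮 (𝒮.p.obj x)).obj} (k : y' ⟶ y), Q y → Q y' := by
    rintro y' y k ⟨ψ, hψ⟩
    exact ⟨k.left ≫ ψ, by rw [Functor.map_comp, hψ, CostructuredArrow.w k]⟩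
  have key : ∀ (y : (sl 𝒮 (𝒮.p.obj x)).obj) (hy : Q y), ∃ b : y.left ⟶ y.left,
      𝒮.p.IsHomLift (𝟙 (𝒮.p.obj y.left)) b ∧
        ∀ ψ : y.left ⟶ x, 𝒮.p.map ψ = y.hom → b ≫ ψ = ψ ≫ β.hom.1 := by
    rintro y ⟨ψ₀, hψ₀⟩
    obtain ⟨b, hb, hb2⟩ := exists_conjAut J 𝒮 h𝒮 hcomm x β y.left ψ₀
    exact ⟨b, hb, fun ψ hψ => hb2 ψ (hψ.trans hψ₀.symm)⟩
  choose ρ hρ1 hρ2 using key
  have nat : ∀ {y' y : (sl 𝒮 (𝒮.p.obj x)).obj} (k : y' ⟶ y) (hy : Q y) (hy' : Q y'),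
      (slFor 𝒮 (𝒮.p.obj x)).map k ≫ ρ y hy = ρ y' hy' ≫ (slFor 𝒮 (𝒮.p.obj x)).map k := by
    intro y' y k hy hy'
    obtain ⟨ψ, hψ⟩ := id hy
    change k.left ≫ ρ y hy = ρ y' hy' ≫ k.left
    have hk : 𝒮.p.IsHomLift (𝒮.p.map k.left) k.left := inferInstance
    have l1 : 𝒮.p.IsHomLift (𝒮.p.map k.left) (k.left ≫ ρ y hy) :=
      isHomLift_comp_id_right 𝒮.p _ _ _ hk (hρ1 y hy)
    have l2 : 𝒮.p.IsHomLift (𝒮.p.map k.left) (ρ y' hy' ≫ k.left) :=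
      isHomLift_comp_id_left 𝒮.p _ _ _ (hρ1 y' hy') hk
    have hkψ : 𝒮.p.map (k.left ≫ ψ) = y'.hom := by
      rw [Functor.map_comp, hψ, CostructuredArrow.w k]
    refine IsFibGrpd.ext_of_comp 𝒮.p hfib (𝒮.p.map k.left) ψ ?_
    rw [Category.assoc, hρ2 y hy ψ hψ, Category.assoc, hρ2 y' hy' (k.left ≫ ψ) hkψ,
      Category.assoc]
  have hloc : ∀ y : (sl 𝒮 (𝒮.p.obj x)).obj, ∃ R ∈ J ((sl 𝒮 (𝒮.p.obj x)).p.obj y),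
      ∀ ⦃V : C⦄ (f : V ⟶ (sl 𝒮 (𝒮.p.obj x)).p.obj y), R f →
        ∃ (y' : (sl 𝒮 (𝒮.p.obj x)).obj) (k : y' ⟶ y), Q y' ∧
          (sl 𝒮 (𝒮.p.obj x)).p.IsHomLift f k := by
    intro y
    obtain ⟨R, hR, H⟩ := exists_loc_conn_over J 𝒮 h𝒮 x y.left y.hom
    refine ⟨R, hR, fun V f hf => ?_⟩
    obtain ⟨z₀, φ₀, ψ, hφ₀, hψ⟩ := H f hf
    refine ⟨CostructuredArrow.mk (𝒮.p.map φ₀ ≫ y.hom), CostructuredArrow.homMk φ₀ rfl,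
      ⟨ψ, hψ⟩, ?_⟩
    rw [sl_isHomLift_iff]; exact hφ₀
  obtain ⟨r, hr1, hr2, hr3⟩ := exists_ext_nat J (slFor 𝒮 (𝒮.p.obj x)) (slFor 𝒮 (𝒮.p.obj x)) Q hQ
    (isFibGrpd_sl 𝒮 (𝒮.p.obj x) hfib) ρ hρ1 nat h𝒮.1 hloc
  refine ⟨⟨fun z h => mkAutO hfib z (r (CostructuredArrow.mk h)) (hr1 (CostructuredArrow.mk h)), ?_⟩, ?_⟩
  · intro x' x'' φ h h' e
    rw [mkAutO_hom, mkAutO_hom]
    exact (hr3 (CostructuredArrow.homMk φ e :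
      CostructuredArrow.mk h' ⟶ CostructuredArrow.mk h)).symm
  · apply autO_ext
    change r (CostructuredArrow.mk (𝟙 _)) = β.hom.1
    have hQ1 : Q (CostructuredArrow.mk (𝟙 (𝒮.p.obj x))) := ⟨𝟙 x, 𝒮.p.map_id x⟩
    rw [hr2 _ hQ1]
    have := hρ2 _ hQ1 (𝟙 x) (𝒮.p.map_id x)
    exact (Category.comp_id _).symm.trans (this.trans (Category.id_comp _))

end Surj

end Groth.Agent.Helper6.GerbL
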