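import Mathlib
import Groth.Prelude.Def_StGerb
import Groth.Agent.Lib.Helper6.GerbL.Band2

/-!
# The band of a gerbe with commutative automorphism groups: the sheaf property (helper6)
-/

set_option linter.unusedSectionVars false
set_option linter.unusedVariables false
set_option linter.unusedSimpArgs false
set_option autoImplicit false
set_option linter.style.haveILetI false
set_option maxHeartbeats 400000

noncomputable section

namespace Groth.Agent.Helper6.GerbL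

open CategoryTheory Functor Opposite Groth.Agent.Helper2 Groth.Agent.Helper2.FibCatLib
  Groth.Agent.Helper2.StkLib

universe v u

variable {C : Type u} [Category.{v} C] (J : GrothendieckTopology C)
  (𝒮 : BasedCategory.{v, max u v} C)

theorem bandPsh_map_apply {U V : C} (g : V ⟶ U) (a : natAut 𝒮 U) :
    ((bandPsh 𝒮 ⋙ forget GrpCat).map g.op : natAut 𝒮 U → natAut 𝒮 V) a = resHom 𝒮 g a := rfl

theorem isHomLift_of_map_eq {z' z : 𝒮.obj} {V : C} (f : V ⟶ 𝒮.p.obj z) (ξ : z' ⟶ z)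
    (e : 𝒮.p.obj z' = V) (hξ : 𝒮.p.map ξ = eqToHom e ≫ f) : 𝒮.p.IsHomLift f ξ := by
  subst e
  have : f = 𝒮.p.map ξ := by simpa using hξ.symm
  subst this
  infer_instance

theorem bandPsh_isSeparatedFor (h𝒮s : Stk.IsStack J 𝒮) {U : C} (R : Sieve U) (hR : R ∈ J U) :
    Presieve.IsSeparatedFor (bandPsh 𝒮 ⋙ forget GrpCat) R.arrows := by
  have hfib : FibCat.IsFibGrpd 𝒮.p := h𝒮s.1
  intro x t t' ht ht'
  change ↥(natAut 𝒮 U) at t t'
  apply Subtype.ext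
  funext z h
  apply autO_ext
  have hpb : R.pullback h ∈ J (𝒮.p.obj z) := J.pullback_stable h hR
  have hfaith : (Stk.resSieve (R.pullback h) 𝒮).Faithful := (h𝒮s.2 _ hpb).faithful
  refine eq_of_locally_eq (R.pullback h) hfib hfaith _ _ (t.1 z h).hom.2 (t'.1 z h).hom.2 ?_
  intro V f hf
  obtain ⟨z', ξ, e, hξ⟩ := IsFibGrpd.exists_lift' 𝒮.p hfib z f
  refine ⟨z', ξ, isHomLift_of_map_eq 𝒮 f ξ e hξ, ?_⟩
  have n1 := t.2 ξ h (𝒮.p.map ξ ≫ h) rfl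
  have n2 := t'.2 ξ h (𝒮.p.map ξ ≫ h) rfl
  rw [← n1, ← n2]
  have hh' : 𝒮.p.map ξ ≫ h = eqToHom e ≫ (f ≫ h) := by rw [hξ, Category.assoc]
  have a1 := ht (f ≫ h) hf
  have a2 := ht' (f ≫ h) hf
  have a3 : resHom 𝒮 (f ≫ h) t = resHom 𝒮 (f ≫ h) t' := a1.trans a2.symm
  have a4 := congrArg (fun s : natAut 𝒮 V => s.1 z' (eqToHom e)) a3
  simp only [resHom_apply] at a4
  rw [hh', a4]

theorem bandPsh_exists_amalg (h𝒮s : Stk.IsStack J 𝒮) {U : C} (R : Sieve U) (hR : R ∈ J U)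
    (x : Presieve.FamilyOfElements (bandPsh 𝒮 ⋙ forget GrpCat) R.arrows) (hx : x.Compatible) :
    ∃ t, x.IsAmalgamation t := by
  have hfib : FibCat.IsFibGrpd 𝒮.p := h𝒮s.1
  have hsc := hx.to_sieveCompatible
  let xx : ∀ ⦃V : C⦄ (f : V ⟶ U), R f → natAut 𝒮 V := fun V f hf => x f hf
  have hxx : ∀ ⦃V W : C⦄ (f : V ⟶ U) (g : W ⟶ V) (hf : R f) (hgf : R (g ≫ f)),
      xx (g ≫ f) hgf = resHom 𝒮 g (xx f hf) := fun V W f g hf hgf => hsc f g hf
  have hxcongr : ∀ ⦃V : C⦄ (f f' : V ⟶ U) (e : f = f') (hf : R f) (hf' : R f'),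
      xx f hf = xx f' hf' := by
    intro V f f' e hf hf'; subst e; rfl
  let Q : (sl 𝒮 U).obj → Prop := fun y => R y.hom
  have hQ : ∀ {y' y : (sl 𝒮 U).obj} (k : y' ⟶ y), Q y → Q y' := by
    intro y' y k hy
    change R y'.hom
    rw [← CostructuredArrow.w k]
    exact R.downward_closed hy _
  let ρ : ∀ y : (sl 𝒮 U).obj, Q y → ((slFor 𝒮 U).obj y ⟶ (slFor 𝒮 U).obj y) :=
    fun y hy => ((xx y.hom hy).1 y.left (𝟙 _)).hom.1
  have hρ : ∀ (y : (sl 𝒮 U).obj) (hy : Q y), 𝒮.p.IsHomLift (𝟙 ((sl 𝒮 U).p.obj y)) (ρ y hy) :=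
    fun y hy => ((xx y.hom hy).1 y.left (𝟙 _)).hom.2
  have nat : ∀ {y' y : (sl 𝒮 U).obj} (k : y' ⟶ y) (hy : Q y) (hy' : Q y'),
      (slFor 𝒮 U).map k ≫ ρ y hy = ρ y' hy' ≫ (slFor 𝒮 U).map k := by
    intro y' y k hy hy'
    change k.left ≫ ((xx y.hom hy).1 y.left (𝟙 _)).hom.1 =
      ((xx y'.hom hy').1 y'.left (𝟙 _)).hom.1 ≫ k.left
    have hgf : R (𝒮.p.map k.left ≫ y.hom) := R.downward_closed hy _
    have e1 : xx y'.hom hy' = resHom 𝒮 (𝒮.p.map k.left) (xx y.hom hy) :=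
      (hxcongr _ _ (CostructuredArrow.w k).symm hy' hgf).trans
        (hxx y.hom (𝒮.p.map k.left) hy hgf)
    rw [e1, resHom_apply]
    exact ((xx y.hom hy).2 k.left (𝟙 _) (𝟙 _ ≫ 𝒮.p.map k.left)
      (by rw [Category.comp_id, Category.id_comp])).symm
  have hloc : ∀ y : (sl 𝒮 U).obj, ∃ R' ∈ J ((sl 𝒮 U).p.obj y),
      ∀ ⦃V : C⦄ (f : V ⟶ (sl 𝒮 U).p.obj y), R' f →
        ∃ (y' : (sl 𝒮 U).obj) (k : y' ⟶ y), Q y' ∧ (sl 𝒮 U).p.IsHomLift f k := by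
    intro y
    refine ⟨R.pullback y.hom, J.pullback_stable y.hom hR, fun V f hf => ?_⟩
    obtain ⟨z', ξ, e, hξ⟩ := IsFibGrpd.exists_lift' 𝒮.p hfib y.left f
    refine ⟨CostructuredArrow.mk (𝒮.p.map ξ ≫ y.hom), CostructuredArrow.homMk ξ rfl, ?_, ?_⟩
    · change R (𝒮.p.map ξ ≫ y.hom)
      rw [hξ, Category.assoc]
      exact R.downward_closed hf _
    · rw [sl_isHomLift_iff]; exact isHomLift_of_map_eq 𝒮 f ξ e hξ
  obtain ⟨r, hr1, hr2, hr3⟩ := exists_ext_nat J (slFor 𝒮 U) (slFor 𝒮 U) Q hQ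
    (isFibGrpd_sl 𝒮 U hfib) ρ hρ nat h𝒮s hloc
  let t : natAut 𝒮 U := ⟨fun z h => mkAutO hfib z (r (CostructuredArrow.mk h))
    (hr1 (CostructuredArrow.mk h)), by
    intro x' x'' φ h h' e
    rw [mkAutO_hom, mkAutO_hom]
    exact (hr3 (CostructuredArrow.homMk φ e :
      CostructuredArrow.mk h' ⟶ CostructuredArrow.mk h)).symm⟩
  refine ⟨t, ?_⟩
  intro V f hf
  change resHom 𝒮 f t = xx f hf
  apply Subtype.ext
  funext z e
  apply autO_ext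
  change r (CostructuredArrow.mk (e ≫ f)) = ((xx f hf).1 z e).hom.1
  have hQ1 : Q (CostructuredArrow.mk (e ≫ f)) := R.downward_closed hf e
  rw [hr2 _ hQ1]
  change ((xx (e ≫ f) hQ1).1 z (𝟙 _)).hom.1 = _
  rw [hxx f e hf hQ1, resHom_apply, Category.id_comp]

theorem bandPsh_isSheaf (h𝒮s : Stk.IsStack J 𝒮) : Presheaf.IsSheaf J (bandPsh 𝒮) := by
  rw [Presheaf.isSheaf_iff_isSheaf_forget J (bandPsh 𝒮) (forget GrpCat),
    isSheaf_iff_isSheaf_of_type]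
  intro U R hR
  rw [← Presieve.isSeparatedFor_and_exists_isAmalgamation_iff_isSheafFor]
  exact ⟨bandPsh_isSeparatedFor J 𝒮 h𝒮s R hR, bandPsh_exists_amalg J 𝒮 h𝒮s R hR⟩

end Groth.Agent.Helper6.GerbL
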