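import Mathlib
import Groth.Prelude.Def_StGerb
import Groth.Agent.Lib.Helper6.GerbL.Band3

/-!
# The band of a gerbe with commutative automorphism groups (helper6)
-/

set_option linter.unusedSectionVars false
set_option linter.unusedVariables false
set_option linter.unusedSimpArgs false
set_option autoImplicit false
set_option linter.style.haveILetI false
set_option maxHeartbeats 400000

noncomputable section

namespace Groth.Agent.Helper6.GerbL

open CategoryTheory Functor Opposite Groth.Agent.Helper2 Groth.Agent.Helper2.FibCatLib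
  Groth.Agent.Helper2.StkLib

universe v u

variable {C : Type u} [Category.{v} C] (J : GrothendieckTopology C)
  (𝒮 : BasedCategory.{v, max u v} C)

/-- The banding of an abelian gerbe by its band. -/
def bandBanding (h𝒮 : Gerb.IsGerbe J 𝒮)
    (hcomm : ∀ (x : 𝒮.obj) (α β : Gerb.AutO x), α * β = β * α) :
    Gerb.Banding 𝒮 (bandPsh 𝒮) where
  iso x := MulEquiv.ofBijective (evalHom 𝒮 x)
    ⟨evalHom_injective J 𝒮 h𝒮 x, evalHom_surjective J 𝒮 h𝒮 hcomm x⟩
  natural {x' x} φ a := by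
    change ((resHom 𝒮 (𝒮.p.map φ) a).1 x' (𝟙 _)).hom.1 ≫ φ = φ ≫ (a.1 x (𝟙 _)).hom.1
    rw [resHom_apply]
    exact a.2 φ (𝟙 _) (𝟙 _ ≫ 𝒮.p.map φ) (by rw [Category.comp_id, Category.id_comp])

theorem exists_band (h𝒮 : Gerb.IsGerbe J 𝒮)
    (hcomm : ∀ (x : 𝒮.obj) (α β : Gerb.AutO x), α * β = β * α) :
    ∃ G : Sheaf J GrpCat.{max u v}, (∀ (U : C) (a b : G.obj.obj (op U)), a * b = b * a) ∧
      Nonempty (Gerb.Banding 𝒮 G.obj) := by
  refine ⟨⟨bandPsh 𝒮, bandPsh_isSheaf J 𝒮 h𝒮.1⟩, ?_, ⟨bandBanding J 𝒮 h𝒮 hcomm⟩⟩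
  intro U a b
  change ↥(natAut 𝒮 U) at a b
  apply Subtype.ext
  funext z h
  exact hcomm z (a.1 z h) (b.1 z h)

end Groth.Agent.Helper6.GerbL
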