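import Mathlib
import Groth.Prelude.Def_StGerb2
import Groth.Agent.Lib.Helper6.GerbL.Conj

/-!
# A pair of functors between gerbes: `φ ∘ ψ` is fibrewise isomorphic to the identity (helper6)
-/

set_option linter.unusedSectionVars false
set_option linter.unusedVariables false
set_option linter.unusedSimpArgs false
set_option autoImplicit false
set_option linter.style.haveILetI false
set_option maxHeartbeats 400000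

noncomputable section

namespace Groth.Agent.Helper6.GerbL

open CategoryTheory Functor Groth.Agent.Helper2 Groth.Agent.Helper2.FibCatLib
  Groth.Agent.Helper2.StkLib

universe v₃ u₃ v₂ u₂ v u

variable {C : Type u} [Category.{v} C] (J : GrothendieckTopology C)
  {𝒳 : BasedCategory.{v₂, u₂} C} {𝒴 : BasedCategory.{v₃, u₃} C}

theorem conj_calc {D : Type*} [Category D] {Z P Z1 P1 : D} (ΦB : P ⟶ P) (g'' : P ⟶ Z)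
    (B : Z ⟶ Z) (θ : Z ⟶ Z1) [Mono θ] (Φθ : P ⟶ P1) (G' : P1 ⟶ Z1) (ΦA : P1 ⟶ P1)
    (A : Z1 ⟶ Z1) (k : g'' ≫ θ = Φθ ≫ G') (b : B ≫ θ = θ ≫ A) (Φb : ΦB ≫ Φθ = Φθ ≫ ΦA)
    (c : ΦA ≫ G' = G' ≫ A) : ΦB ≫ g'' = g'' ≫ B := by
  rw [← cancel_mono θ, Category.assoc, k, reassoc_of% Φb, c, ← reassoc_of% k, Category.assoc, b]

section

variable (h𝒳 : Gerb.IsGerbe J 𝒳) (h𝒴 : Gerb.IsGerbe J 𝒴) (φ : 𝒳 ⥤ᵇ 𝒴) (ψ : 𝒴 ⥤ᵇ 𝒳) (x : 𝒳.obj)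
  (hE : ∀ T : C, Nonempty (T ⟶ 𝒳.p.obj x))
  (hU : ∀ (T : C) (a b : T ⟶ 𝒳.p.obj x), a = b)
  (hφ : ∀ (x' : 𝒳.obj) (c : x' ⟶ x), Function.Surjective (Gerb.autMap φ x'))
  (g : ψ.obj (φ.obj x) ⟶ x) (hg : 𝒳.p.IsHomLift (𝟙 (𝒳.p.obj x)) g)
  (hconj : ∀ (x' : 𝒳.obj) (c : x' ⟶ x) (g' : ψ.obj (φ.obj x') ⟶ x'),
    𝒳.p.IsHomLift (𝟙 (𝒳.p.obj x')) g' → ψ.map (φ.map c) ≫ g = g' ≫ c →
      ∀ α : Gerb.AutO x', ψ.map (φ.map α.hom.1) ≫ g' = g' ≫ α.hom.1)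

include h𝒳 h𝒴 hφ hg hconj in
theorem conj_comp (z' : 𝒴.obj) (d : z' ⟶ φ.obj x) (g'' : φ.obj (ψ.obj z') ⟶ z')
    (hg'' : 𝒴.p.IsHomLift (𝟙 (𝒴.p.obj z')) g'')
    (hd : φ.map (ψ.map d) ≫ φ.map g = g'' ≫ d) (β : Gerb.AutO z') :
    φ.map (ψ.map β.hom.1) ≫ g'' = g'' ≫ β.hom.1 := by
  have hfX : FibCat.IsFibGrpd 𝒳.p := h𝒳.1.1
  have hfY : FibCat.IsFibGrpd 𝒴.p := h𝒴.1.1
  set V := 𝒴.p.obj z' with hV
  have hdl : 𝒴.p.IsHomLift (𝒴.p.map d) d := inferInstance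
  obtain ⟨x', c, hc⟩ := IsFibGrpd.exists_lift_of_eq 𝒳.p hfX (φ.w_obj x).symm (𝒴.p.map d)
  have hφc : 𝒴.p.IsHomLift (𝒴.p.map d) (φ.map c) := map_isHomLift' φ _ c hc
  obtain ⟨θ, hθ, hθc⟩ := exists_factor hfY (𝒴.p.map d) (φ.map c) hφc d hdl
  have hθiso : IsIso θ := IsFibGrpd.isIso_of_isHomLift_id 𝒴.p hfY (S := V) θ
  have hx'V : 𝒳.p.obj x' = V := domain_eq' 𝒳.p _ c hc
  have hφx'V : 𝒴.p.obj (φ.obj x') = V := (φ.w_obj x').trans hx'V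
  -- the conjugate `g'` at `x'`
  obtain ⟨g', hg', hg'c⟩ := exists_conj J h𝒳 (BasedFunctor.comp φ ψ) x g hg x' c
  change ψ.obj (φ.obj x') ⟶ x' at g'
  change ψ.map (φ.map c) ≫ g = g' ≫ c at hg'c
  have hg'V : 𝒳.p.IsHomLift (𝟙 V) g' := isHomLift_id_transport 𝒳.p hx'V _ hg'
  have hφg' : 𝒴.p.IsHomLift (𝟙 V) (φ.map g') := map_isHomLift' φ _ g' hg'V
  have hψθ : 𝒳.p.IsHomLift (𝟙 V) (ψ.map θ) := map_isHomLift' ψ _ θ hθ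
  have hΦθ : 𝒴.p.IsHomLift (𝟙 V) (φ.map (ψ.map θ)) := map_isHomLift' φ _ _ hψθ
  -- `g''` is the conjugate of `φ g'` by `θ`
  have key : g'' ≫ θ = φ.map (ψ.map θ) ≫ φ.map g' := by
    have h1 : 𝒴.p.IsHomLift (𝟙 V) (g'' ≫ θ) := isHomLift_comp_id_left 𝒴.p (𝟙 V) _ _ hg'' hθ
    have h2 : 𝒴.p.IsHomLift (𝟙 V) (φ.map (ψ.map θ) ≫ φ.map g') :=
      isHomLift_comp_id_left 𝒴.p (𝟙 V) _ _ hΦθ hφg'
    refine IsFibGrpd.ext_of_comp 𝒴.p hfY (𝟙 V) (φ.map c) ?_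
    rw [Category.assoc, hθc, ← hd, ← hθc, Category.assoc, ← Functor.map_comp φ.toFunctor g' c]
    change _ = _ ≫ φ.map (g' ≫ c)
    rw [← hg'c]
    simp only [Functor.map_comp, Category.assoc]
  -- the automorphism `β' = θ⁻¹ β θ` of `φ x'`
  have hβ : 𝒴.p.IsHomLift (𝟙 V) β.hom.1 := β.hom.2
  have hθi : 𝒴.p.IsHomLift (𝟙 V) (inv θ) := by
    haveI : 𝒴.p.IsHomLift (𝟙 V) (asIso θ).hom := hθ
    exact IsHomLift.lift_id_inv 𝒴.p V (asIso θ)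
  have hβ'V : 𝒴.p.IsHomLift (𝟙 V) (inv θ ≫ β.hom.1 ≫ θ) :=
    isHomLift_comp_id_left 𝒴.p (𝟙 V) _ _ hθi (isHomLift_comp_id_left 𝒴.p (𝟙 V) _ _ hβ hθ)
  have hβ' : 𝒴.p.IsHomLift (𝟙 (𝒴.p.obj (φ.obj x'))) (inv θ ≫ β.hom.1 ≫ θ) :=
    isHomLift_id_transport 𝒴.p hφx'V.symm _ hβ'V
  obtain ⟨α, hα⟩ := hφ x' c (mkAutO hfY (φ.obj x') (inv θ ≫ β.hom.1 ≫ θ) hβ')
  have hα' : φ.map α.hom.1 = inv θ ≫ β.hom.1 ≫ θ := by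
    have := congrArg (fun t : Gerb.AutO (φ.obj x') => t.hom.1) hα
    simpa using this
  have hcα := hconj x' c g' hg' hg'c α
  have hβθ : β.hom.1 ≫ θ = θ ≫ φ.map α.hom.1 := by
    rw [hα']; simp
  have hΦb : φ.map (ψ.map β.hom.1) ≫ φ.map (ψ.map θ) =
      φ.map (ψ.map θ) ≫ φ.map (ψ.map (φ.map α.hom.1)) := by
    rw [← Functor.map_comp, ← Functor.map_comp, hβθ, Functor.map_comp, Functor.map_comp]
  have hc' : φ.map (ψ.map (φ.map α.hom.1)) ≫ φ.map g' = φ.map g' ≫ φ.map α.hom.1 := by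
    rw [← Functor.map_comp, hcα, Functor.map_comp]
  exact conj_calc _ _ _ θ _ _ _ _ key hβθ hΦb hc'

include h𝒳 h𝒴 hE hU hφ hg hconj in
theorem exists_fibrewise_iso_comp :
    ∃ σ : ∀ z : 𝒴.obj, φ.obj (ψ.obj z) ⟶ z,
      (∀ z, IsIso (σ z) ∧ 𝒴.p.IsHomLift (𝟙 (𝒴.p.obj z)) (σ z)) ∧
      (∀ (z z' : 𝒴.obj) (f : z ⟶ z'), 𝒴.p.IsHomLift (𝟙 (𝒴.p.obj z)) f →
        φ.map (ψ.map f) ≫ σ z' = σ z ≫ f) := by
  have hE' : ∀ T : C, Nonempty (T ⟶ 𝒴.p.obj (φ.obj x)) := by rw [φ.w_obj x]; exact hE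
  have hU' : ∀ (T : C) (a b : T ⟶ 𝒴.p.obj (φ.obj x)), a = b := by rw [φ.w_obj x]; exact hU
  have hg₀ : 𝒴.p.IsHomLift (𝟙 (𝒴.p.obj (φ.obj x))) (φ.map g) := by
    rw [φ.w_obj x]; exact map_isHomLift' φ _ g hg
  exact exists_fibrewise_iso J h𝒴 (BasedFunctor.comp ψ φ) (φ.obj x) hE' hU' (φ.map g) hg₀
    (fun z' d g'' hg'' hd β => conj_comp J h𝒳 h𝒴 φ ψ x hφ g hg hconj z' d g'' hg'' hd β)

end

end Groth.Agent.Helper6.GerbL
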