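import Mathlib
import Groth.Prelude.Def_StGerb
import Groth.Agent.Lib.Helper6.GerbL.Equiv
import Groth.Agent.Lib.Helper2.Stk.Basic

/-!
# Gerbes over a site are invariant under equivalences over the base (helper6)
-/

set_option linter.unusedSectionVars false
set_option linter.unusedVariables false
set_option linter.unusedSimpArgs false
set_option autoImplicit false
set_option linter.style.haveILetI false
set_option maxHeartbeats 400000

noncomputable section

namespace Groth.Agent.Helper6.GerbL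

open CategoryTheory Functor Groth.Agent.Helper2 Groth.Agent.Helper2.FibCatLib
  Groth.Agent.Helper2.StkLib

universe v₃ u₃ v₂ u₂ v u

variable {C : Type u} [Category.{v} C] (J : GrothendieckTopology C)

theorem isGerbeOver_toSelf_iff {𝒮₁ : BasedCategory.{v₂, u₂} C} {𝒮₂ : BasedCategory.{v₃, u₃} C}
    (F : 𝒮₁ ⥤ᵇ 𝒮₂) :
    Gerb.IsGerbeOver J (FibCat.toSelf 𝒮₁) ↔
      Gerb.IsGerbeOver J (BasedFunctor.comp F (FibCat.toSelf 𝒮₂)) := by
  constructor
  · refine isGerbeOver_of_iso J (FibCat.toSelf 𝒮₁) (BasedFunctor.comp F (FibCat.toSelf 𝒮₂))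
      (fun x => eqToIso (F.w_obj x).symm) (fun x => ?_) (fun {x x'} φ => ?_)
    · exact IsHomLift.eqToHom_domain_lift_id (F.w_obj x).symm rfl
    · change 𝒮₁.p.map φ ≫ eqToHom (F.w_obj x').symm = eqToHom (F.w_obj x).symm ≫ 𝒮₂.p.map (F.map φ)
      have := Functor.congr_hom F.w φ
      simp only [Functor.comp_map] at this
      rw [this]; simp
  · refine isGerbeOver_of_iso J (BasedFunctor.comp F (FibCat.toSelf 𝒮₂)) (FibCat.toSelf 𝒮₁)
      (fun x => eqToIso (F.w_obj x)) (fun x => ?_) (fun {x x'} φ => ?_)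
    · exact IsHomLift.eqToHom_domain_lift_id (F.w_obj x) (F.w_obj x)
    · change 𝒮₂.p.map (F.map φ) ≫ eqToHom (F.w_obj x') = eqToHom (F.w_obj x) ≫ 𝒮₁.p.map φ
      have := Functor.congr_hom F.w φ
      simp only [Functor.comp_map] at this
      rw [this]; simp

theorem isGerbe_iff_of_isEquivOver {𝒮₁ 𝒮₂ : BasedCategory.{v, max u v} C}
    (F : 𝒮₁ ⥤ᵇ 𝒮₂) (hF : FibCat.IsEquivOver F) :
    Gerb.IsGerbe J 𝒮₁ ↔ Gerb.IsGerbe J 𝒮₂ := by
  unfold Gerb.IsGerbe
  rw [isStack_iff_of_isEquivOver J F hF, isGerbeOver_toSelf_iff J F,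
    isGerbeOver_equiv_comp_iff J F hF]

end Groth.Agent.Helper6.GerbL
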